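/-
Tools for highly transitive permutation groups: tuple stabilisers, induced groups on invariant
sets, involutions with a prescribed action on some points.
-/
import Mathlib.GroupTheory.GroupAction.MultipleTransitivity
import Mathlib.GroupTheory.GroupAction.FixingSubgroup
import Mathlib.GroupTheory.Perm.Support
import Mathlib.GroupTheory.PGroup
import Mathlib.GroupTheory.Sylow
import Mathlib.Tactic

set_option autoImplicit false
set_option linter.unusedSectionVars false
set_option linter.style.haveILetI false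

namespace CfsgLib.Homog

open MulAction Equiv

universe u

variable {α : Type u} [Fintype α] [DecidableEq α]

theorem exists_map {G : Subgroup (Perm α)} {k : ℕ} (hG : IsMultiplyPretransitive G α k)
    (x y : Fin k ↪ α) : ∃ g ∈ G, ∀ i, g (x i) = y i := by
  obtain ⟨g, hg⟩ := exists_smul_eq G x y
  exact ⟨g, g.2, fun i => DFunLike.congr_fun hg i⟩

theorem transitive_of_exists_map {G : Subgroup (Perm α)} {k : ℕ}
    (h : ∀ x y : Fin k ↪ α, ∃ g ∈ G, ∀ i, g (x i) = y i) : IsMultiplyPretransitive G α k := by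
  refine ⟨fun x y => ?_⟩
  obtain ⟨g, hg, hgx⟩ := h x y
  exact ⟨⟨g, hg⟩, Function.Embedding.ext hgx⟩

/-- The elements of `G` fixing the entries of a tuple. -/
def tupleStab (G : Subgroup (Perm α)) {k : ℕ} (x : Fin k → α) : Subgroup (Perm α) :=
  G ⊓ fixingSubgroup (Perm α) (Set.range x)

theorem mem_tupleStab {G : Subgroup (Perm α)} {k : ℕ} {x : Fin k → α} {g : Perm α} :
    g ∈ tupleStab G x ↔ g ∈ G ∧ ∀ i, g (x i) = x i := by
  simp [tupleStab, mem_fixingSubgroup_iff, Perm.smul_def]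

theorem card_tupleStab_map {G : Subgroup (Perm α)} {k : ℕ} {x y : Fin k → α} {g : Perm α}
    (hg : g ∈ G) (hxy : ∀ i, g (x i) = y i) :
    Nat.card (tupleStab G x) = Nat.card (tupleStab G y) := by
  have hinv : ∀ i, g⁻¹ (y i) = x i := fun i => by rw [← hxy, Perm.inv_def, Equiv.symm_apply_apply]
  refine Nat.card_congr
    { toFun := fun m => ⟨g * m * g⁻¹, ?_⟩
      invFun := fun m => ⟨g⁻¹ * m * g, ?_⟩
      left_inv := fun m => Subtype.ext (by simp [mul_assoc])
      right_inv := fun m => Subtype.ext (by simp [mul_assoc]) }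
  · obtain ⟨h1, h2⟩ := mem_tupleStab.1 m.2
    exact mem_tupleStab.2 ⟨G.mul_mem (G.mul_mem hg h1) (G.inv_mem hg), fun i => by
      rw [Perm.mul_apply, Perm.mul_apply, hinv, h2, hxy]⟩
  · obtain ⟨h1, h2⟩ := mem_tupleStab.1 m.2
    exact mem_tupleStab.2 ⟨G.mul_mem (G.mul_mem (G.inv_mem hg) h1) hg, fun i => by
      rw [Perm.mul_apply, Perm.mul_apply, hxy, h2, hinv]⟩

/-- The group induced on `F` by the elements of `G` preserving it. -/
def onSet (G : Subgroup (Perm α)) (F : Finset α) : Subgroup (Perm F) where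
  carrier := {σ | ∃ g ∈ G, ∀ x : F, g (x : α) = σ x}
  one_mem' := ⟨1, G.one_mem, fun _ => rfl⟩
  mul_mem' := by
    rintro σ τ ⟨g, hg, hgx⟩ ⟨h, hh, hhx⟩
    exact ⟨g * h, G.mul_mem hg hh, fun x => by rw [Perm.mul_apply, hhx, hgx]; rfl⟩
  inv_mem' := by
    rintro σ ⟨g, hg, hgx⟩
    refine ⟨g⁻¹, G.inv_mem hg, fun x => ?_⟩
    rw [Perm.inv_def, Equiv.symm_apply_eq, hgx, Perm.inv_def, Equiv.apply_symm_apply]

theorem mem_onSet {G : Subgroup (Perm α)} {F : Finset α} {σ : Perm F} :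
    σ ∈ onSet G F ↔ ∃ g ∈ G, ∀ x : F, g (x : α) = σ x := Iff.rfl

theorem onSet_mono {G H : Subgroup (Perm α)} (h : G ≤ H) (F : Finset α) :
    onSet G F ≤ onSet H F := by
  rintro σ ⟨g, hg, hgx⟩
  exact ⟨g, h hg, hgx⟩

/-- The common fixed points of a set of permutations. -/
noncomputable def fixSet (U : Subgroup (Perm α)) : Finset α := by
  classical exact Finset.univ.filter fun x => ∀ u ∈ U, u x = x

theorem mem_fixSet {U : Subgroup (Perm α)} {x : α} : x ∈ fixSet U ↔ ∀ u ∈ U, u x = x := by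
  classical
  simp [fixSet]

theorem card_fixSet (U : Subgroup (Perm α)) :
    (fixSet U).card = Nat.card (fixedPoints U α) := by
  classical
  rw [Nat.card_eq_fintype_card, ← Set.toFinset_card]
  congr 1
  ext x
  simp [mem_fixSet, mem_fixedPoints, Subgroup.smul_def, Perm.smul_def]

theorem card_fixed_zpowers (g : Perm α) :
    (fixSet (Subgroup.zpowers g)).card = (g.supportᶜ).card := by
  congr 1
  ext x
  rw [mem_fixSet, Finset.mem_compl, Perm.notMem_support]
  refine ⟨fun h => h g (Subgroup.mem_zpowers g), fun h u hu => ?_⟩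
  obtain ⟨i, rfl⟩ := hu
  exact Perm.zpow_apply_eq_self_of_apply_eq_self h i

/-- An element of order two in a finite group of even order. -/
theorem exists_involution_of_even {H : Subgroup (Perm α)} (h : Even (Nat.card H)) :
    ∃ u ∈ H, u * u = 1 ∧ u ≠ 1 := by
  haveI : Fact (Nat.Prime 2) := ⟨Nat.prime_two⟩
  obtain ⟨u, hu⟩ := exists_prime_orderOf_dvd_card' 2 (even_iff_two_dvd.1 h)
  refine ⟨u, u.2, ?_, ?_⟩
  · have h1 := pow_orderOf_eq_one u
    rw [hu, pow_two] at h1
    exact congrArg Subtype.val h1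
  · intro e
    have : u = 1 := Subtype.ext e
    rw [this, orderOf_one] at hu
    omega

theorem odd_orderOf {H : Subgroup (Perm α)} (h : Odd (Nat.card H)) {c : Perm α} (hc : c ∈ H) :
    Odd (orderOf c) :=
  h.of_dvd_nat ((Subgroup.orderOf_coe (⟨c, hc⟩ : H)) ▸ orderOf_dvd_natCard _)

variable {G : Subgroup (Perm α)} {k : ℕ}

/-- Lifting an involutory pattern to an involution. -/
theorem exists_involution_pattern {x : Fin k → α} (hodd : Odd (Nat.card (tupleStab G x)))
    {g : Perm α} (hg : g ∈ G) (hsq : ∀ i, g (g (x i)) = x i) (hne : ∃ i, g (x i) ≠ x i) :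
    ∃ u ∈ G, u * u = 1 ∧ u ≠ 1 ∧ ∀ i, u (x i) = g (x i) := by
  have hmem : g * g ∈ tupleStab G x := mem_tupleStab.2 ⟨G.mul_mem hg hg, hsq⟩
  obtain ⟨j, hj⟩ := odd_orderOf hodd hmem
  refine ⟨g ^ orderOf (g * g), G.pow_mem hg _, ?_, ?_, ?_⟩
  · rw [← (Commute.refl g).mul_pow, pow_orderOf_eq_one]
  · have h : ∀ i, (g ^ orderOf (g * g)) (x i) = g (x i) := fun i => by
      rw [hj, pow_succ', pow_mul, Perm.mul_apply, pow_two]
      congr 1
      exact Perm.pow_apply_eq_self_of_apply_eq_self (hsq i) j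
    intro e
    obtain ⟨i, hi⟩ := hne
    exact hi (by rw [← h i, e]; rfl)
  · intro i
    rw [hj, pow_succ', pow_mul, Perm.mul_apply, pow_two]
    congr 1
    exact Perm.pow_apply_eq_self_of_apply_eq_self (hsq i) j

/-- Two involutions with the same action on a tuple with odd stabiliser are conjugate by an
element fixing the tuple. -/
theorem exists_conj_of_pattern {x : Fin k → α} (hodd : Odd (Nat.card (tupleStab G x)))
    {t u : Perm α} (ht : t ∈ G) (hu : u ∈ G) (ht2 : t * t = 1) (hu2 : u * u = 1)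
    (hpat : ∀ i, t (x i) = u (x i)) :
    ∃ w ∈ tupleStab G x, w * t * w⁻¹ = u := by
  have hc : u * t ∈ tupleStab G x := mem_tupleStab.2 ⟨G.mul_mem hu ht, fun i => by
    rw [Perm.mul_apply, hpat, ← Perm.mul_apply, hu2]; rfl⟩
  obtain ⟨j, hj⟩ := odd_orderOf hodd hc
  have ht' : t⁻¹ = t := inv_eq_of_mul_eq_one_right ht2
  have hu' : u⁻¹ = u := inv_eq_of_mul_eq_one_right hu2
  have hconj : t * (u * t) * t⁻¹ = (u * t)⁻¹ := by
    rw [mul_inv_rev, ht', hu']
    simp only [mul_assoc]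
    rw [ht2, mul_one]
  refine ⟨(u * t) ^ (j + 1), pow_mem hc _, ?_⟩
  have h1 : t * ((u * t) ^ (j + 1))⁻¹ = (u * t) ^ (j + 1) * t := by
    have : t * (u * t) ^ (j + 1) * t⁻¹ = ((u * t) ^ (j + 1))⁻¹ := by
      rw [← conj_pow, hconj, inv_pow]
    calc t * ((u * t) ^ (j + 1))⁻¹ = t * (t * (u * t) ^ (j + 1) * t⁻¹) := by rw [this]
      _ = (u * t) ^ (j + 1) * t := by rw [← mul_assoc, ← mul_assoc, ht2, one_mul, ht']
  rw [mul_assoc, h1, ← mul_assoc, ← pow_add,
    show j + 1 + (j + 1) = orderOf (u * t) + 1 by omega, pow_succ, pow_orderOf_eq_one, one_mul,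
    mul_assoc, ht2, mul_one]

/-- An involution with a given pattern commuting with an involution preserving that pattern. -/
theorem exists_commuting_pattern {x : Fin k → α} (hodd : Odd (Nat.card (tupleStab G x)))
    {t u : Perm α} (ht : t ∈ G) (hu : u ∈ G) (ht2 : t * t = 1) (hu2 : u * u = 1)
    (hu' : ∀ i, ∃ j, u (x i) = x j) (hpres : ∀ i, t (u (t (x i))) = u (x i)) :
    ∃ v ∈ G, v * v = 1 ∧ t * v = v * t ∧ ∀ i, v (x i) = u (x i) := by
  obtain ⟨u', hu'def⟩ : ∃ u', t * u * t = u' := ⟨_, rfl⟩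
  have hu'2 : u' * u' = 1 := by
    rw [← hu'def]; simp only [mul_assoc]
    rw [← mul_assoc t t, ht2, one_mul, ← mul_assoc u u, hu2, one_mul, ht2]
  have hpat : ∀ i, u' (x i) = u (x i) := fun i => by
    rw [← hu'def, Perm.mul_apply, Perm.mul_apply, hpres]
  have hc : u' * u ∈ tupleStab G x := mem_tupleStab.2 ⟨G.mul_mem (hu'def ▸ G.mul_mem (G.mul_mem ht hu) ht) hu, fun i => by
    obtain ⟨j, hj⟩ := hu' i
    rw [Perm.mul_apply, hj, hpat, ← hj, ← Perm.mul_apply, hu2]
    rfl⟩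
  obtain ⟨c, hcdef⟩ : ∃ c, u' * u = c := ⟨_, rfl⟩
  rw [hcdef] at hc
  obtain ⟨j, hj⟩ := odd_orderOf hodd hc
  have hui : u⁻¹ = u := inv_eq_of_mul_eq_one_right hu2
  have hti : t⁻¹ = t := inv_eq_of_mul_eq_one_right ht2
  have hu'i : u'⁻¹ = u' := inv_eq_of_mul_eq_one_right hu'2
  have hci : c⁻¹ = u * u' := by rw [← hcdef, mul_inv_rev, hui, hu'i]
  have hcu : u * c * u⁻¹ = c⁻¹ := by
    rw [hci, hui, ← hcdef]; simp only [mul_assoc]; rw [hu2, mul_one]
  have hct : t * c * t⁻¹ = c⁻¹ := by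
    rw [hci, hti, ← hcdef, ← hu'def]; simp only [mul_assoc]
    rw [← mul_assoc t t, ht2, one_mul]
  have hcj : (c ^ j) ∈ tupleStab G x := pow_mem hc j
  refine ⟨u * c ^ j, G.mul_mem hu (mem_tupleStab.1 hcj).1, ?_, ?_, fun i => ?_⟩
  · have h : u * c ^ j * u⁻¹ = (c ^ j)⁻¹ := by rw [← conj_pow, hcu, inv_pow]
    calc u * c ^ j * (u * c ^ j) = (u * c ^ j * u⁻¹) * c ^ j := by rw [hui]; simp only [mul_assoc]
      _ = 1 := by rw [h, inv_mul_cancel]
  · have h : t * c ^ j * t⁻¹ = (c ^ j)⁻¹ := by rw [← conj_pow, hct, inv_pow]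
    have h' : t * (u * c ^ j) = (u' * (c ^ j)⁻¹) * t := by
      rw [← h, ← hu'def, hti]; simp only [mul_assoc]
      rw [← mul_assoc t t, ht2, one_mul, mul_one]
    have hu'c : u' = c * u := by rw [← hcdef, mul_assoc, hu2, mul_one]
    have hcu2 : c * u = u * c⁻¹ := by
      rw [← hcu, hui, ← mul_assoc, ← mul_assoc, hu2, one_mul]
    have hlast : c⁻¹ * (c ^ j)⁻¹ = c ^ j := by
      rw [← mul_inv_rev, ← pow_succ, inv_eq_iff_mul_eq_one, ← pow_add,
        show j + 1 + j = orderOf c by omega, pow_orderOf_eq_one]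
    rw [h', hu'c, hcu2, mul_assoc u, hlast]
  · rw [Perm.mul_apply, (mem_tupleStab.1 hcj).2]

end CfsgLib.Homog
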