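/-
A non-trivial `p`-subgroup fixing more than `k` points of a `k`-transitive group yields a smaller
set on which a section is `k`-transitive.
-/
import Cfsg.Agent.Perm.Homog.Basic
import Cfsg.Agent.S0743
import Mathlib.GroupTheory.Nilpotent

set_option autoImplicit false
set_option linter.unusedSectionVars false
set_option linter.style.haveILetI false

namespace CfsgLib.Homog

open MulAction Equiv

universe u

variable {α : Type u} [Fintype α] [DecidableEq α] {p : ℕ} [hp : Fact p.Prime]
variable {G : Subgroup (Perm α)} {k : ℕ}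

/-- A Sylow subgroup of a subgroup, as a subgroup of the whole group, above a given one. -/
theorem exists_sylow_above {K U : Subgroup (Perm α)} (hUK : U ≤ K) (hU : IsPGroup p U) :
    ∃ P : Sylow p K, U ≤ (P : Subgroup K).map K.subtype := by
  obtain ⟨P, hP⟩ := (hU.comap_subtype (K := K)).exists_le_sylow
  refine ⟨P, fun x hx => ?_⟩
  exact ⟨⟨x, hUK hx⟩, hP (show (⟨x, hUK hx⟩ : K) ∈ U.comap K.subtype from hx), rfl⟩

theorem normalizer_trans_of_sylow {x y : Fin k ↪ α} {U : Subgroup (Perm α)}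
    (hUy : U ≤ tupleStab G y) (hU : IsPGroup p U)
    (hcard : ∀ P : Sylow p (tupleStab G y), Nat.card P = Nat.card U)
    {g : Perm α} (hg : g ∈ G) (hgxy : ∀ i, g (x i) = y i) (hUx : U ≤ tupleStab G x) :
    ∃ h ∈ G, (∀ u, u ∈ U ↔ h * u * h⁻¹ ∈ U) ∧ ∀ i, h (x i) = y i := by
  have hconj : ∀ u ∈ U, g * u * g⁻¹ ∈ tupleStab G y := fun u hu => by
    obtain ⟨h1, h2⟩ := mem_tupleStab.1 (hUx hu)
    exact mem_tupleStab.2 ⟨G.mul_mem (G.mul_mem hg h1) (G.inv_mem hg), fun i => by
      rw [Perm.mul_apply, Perm.mul_apply, show g⁻¹ (y i) = x i by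
        rw [← hgxy, Perm.inv_def, Equiv.symm_apply_apply], h2, hgxy]⟩
  let V : Subgroup (Perm α) := U.map (MulAut.conj g).toMonoidHom
  have hVy : V ≤ tupleStab G y := by rintro _ ⟨u, hu, rfl⟩; exact hconj u hu
  obtain ⟨P, hP⟩ := exists_sylow_above hUy hU
  obtain ⟨Q, hQ⟩ := exists_sylow_above hVy (hU.map _)
  have hPeq : U = (P : Subgroup _).map (tupleStab G y).subtype := by
    refine Subgroup.eq_of_le_of_card_ge hP ?_
    rw [Subgroup.card_map_of_injective Subtype.coe_injective]
    exact (hcard P).le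
  have hQeq : V = (Q : Subgroup _).map (tupleStab G y).subtype := by
    refine Subgroup.eq_of_le_of_card_ge hQ ?_
    rw [Subgroup.card_map_of_injective Subtype.coe_injective,
      Subgroup.card_map_of_injective (MulEquiv.injective _)]
    exact (hcard Q).le
  obtain ⟨m, hm⟩ := exists_smul_eq (tupleStab G y) Q P
  refine ⟨(m : Perm α) * g, G.mul_mem (mem_tupleStab.1 m.2).1 hg, ?_, fun i => by
    rw [Perm.mul_apply, hgxy, (mem_tupleStab.1 m.2).2]⟩
  have hle : ∀ u ∈ U, (m : Perm α) * g * u * ((m : Perm α) * g)⁻¹ ∈ U := by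
    intro u hu
    have h1 : g * u * g⁻¹ ∈ V := ⟨u, hu, rfl⟩
    rw [hQeq] at h1
    obtain ⟨q, hq, hqe⟩ := h1
    have h2 : m * q * m⁻¹ ∈ (P : Subgroup _) := by
      rw [← hm, Sylow.coe_subgroup_smul]
      exact ⟨q, hq, rfl⟩
    rw [hPeq]
    refine ⟨m * q * m⁻¹, h2, ?_⟩
    simp only [Subgroup.coe_subtype] at hqe
    simp [hqe, mul_assoc]
  intro u
  refine ⟨hle u, fun hu => ?_⟩
  have heq : U.map (MulAut.conj ((m : Perm α) * g)).toMonoidHom = U := by
    refine Subgroup.eq_of_le_of_card_ge ?_ ?_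
    · rintro _ ⟨v, hv, rfl⟩; exact hle v hv
    · rw [Subgroup.card_map_of_injective (MulEquiv.injective _)]
  rw [← heq] at hu
  obtain ⟨v, hv, hve⟩ := hu
  have : v = u := (MulAut.conj ((m : Perm α) * g)).injective hve
  rwa [← this]

theorem normalizer_image_mem {U : Subgroup (Perm α)} {h : Perm α}
    (hn : ∀ u, u ∈ U ↔ h * u * h⁻¹ ∈ U) {x : α} (hx : x ∈ fixSet U) : h x ∈ fixSet U := by
  rw [mem_fixSet] at hx ⊢
  intro u hu
  have h1 : h⁻¹ * u * h ∈ U := (hn _).2 (by simpa [mul_assoc] using hu)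
  have h2 := hx _ h1
  rw [Perm.mul_apply, Perm.mul_apply, Perm.inv_def, Equiv.symm_apply_eq] at h2
  exact h2

/-- From a non-trivial `p`-subgroup fixing more than `k` points: a proper subset `F` of more than
`k` points with a `k`-transitive section, whose size is congruent to `k` or to the degree. -/
theorem exists_smaller (hG : IsMultiplyPretransitive G α k) (hk : 1 ≤ k) {Q : Subgroup (Perm α)}
    (hQG : Q ≤ G) (hQ : IsPGroup p Q) (hQ1 : Q ≠ ⊥) (hQf : k < (fixSet Q).card) :
    ∃ F : Finset α, k < F.card ∧ F.card < Fintype.card α ∧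
      IsMultiplyPretransitive (onSet G F) F k ∧
      (F.card ≡ k [MOD p] ∨ F.card ≡ Fintype.card α [MOD p]) := by
  classical
  -- a maximal one
  let S : Finset (Subgroup (Perm α)) :=
    Finset.univ.filter fun U => U ≤ G ∧ IsPGroup p U ∧ k < (fixSet U).card
  obtain ⟨U, hUS, hmax⟩ := S.exists_max_image (fun U => Nat.card U) ⟨Q, by simp [S, hQG, hQ, hQf]⟩
  simp only [S, Finset.mem_filter, Finset.mem_univ, true_and] at hUS
  obtain ⟨hUG, hU, hUf⟩ := hUS
  have hU1 : U ≠ ⊥ := fun e => hQ1 (by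
    have h := hmax Q (by simp [S, hQG, hQ, hQf])
    rw [e, Subgroup.card_bot] at h
    exact (Subgroup.card_le_one_iff_eq_bot (H := Q)).1 h)
  refine ⟨fixSet U, hUf, ?_, ?_⟩
  · refine lt_of_le_of_ne (Finset.card_le_univ _) fun e => hU1 ?_
    have huniv := Finset.eq_univ_of_card _ e
    rw [eq_bot_iff]
    intro u hu
    rw [Subgroup.mem_bot]
    exact Equiv.ext fun x => (mem_fixSet.1 (huniv ▸ Finset.mem_univ x)) u hu
  have hUstab : ∀ x : Fin k ↪ fixSet U, U ≤ tupleStab G (fun i => (x i : α)) := fun x u hu =>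
    mem_tupleStab.2 ⟨hUG hu, fun i => mem_fixSet.1 (x i).2 u hu⟩
  let e : ∀ x : Fin k ↪ fixSet U, Fin k ↪ α := fun x => x.trans (Function.Embedding.subtype _)
  by_cases hall : ∃ x : Fin k ↪ fixSet U, ∀ P : Sylow p (tupleStab G (fun i => (x i : α))),
      Nat.card P = Nat.card U
  · -- Witt
    obtain ⟨x₀, hx₀⟩ := hall
    refine ⟨?_, Or.inr ?_⟩
    · refine transitive_of_exists_map fun x y => ?_
      obtain ⟨g, hg, hgxy⟩ := exists_map hG (e x) (e y)
      obtain ⟨g₀, hg₀, hgx₀⟩ := exists_map hG (e x₀) (e y)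
      have hy : ∀ P : Sylow p (tupleStab G (e y)), Nat.card P = Nat.card U := by
        intro P
        obtain ⟨P₀⟩ : Nonempty (Sylow p (tupleStab G (e x₀))) := inferInstance
        have hc : Nat.card (tupleStab G (e y)) = Nat.card (tupleStab G (e x₀)) :=
          (card_tupleStab_map hg₀ hgx₀).symm
        rw [P.card_eq_multiplicity, hc, ← P₀.card_eq_multiplicity]
        exact hx₀ P₀
      obtain ⟨h, hh, hn, hhxy⟩ := normalizer_trans_of_sylow (p := p) (hUstab y) hU hy hg hgxy (hUstab x)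
      let σ : Perm (fixSet U) := Equiv.ofBijective
        (fun z => (⟨h (z : α), normalizer_image_mem hn z.2⟩ : fixSet U))
        (Finite.injective_iff_bijective.1 fun a b hab =>
          Subtype.ext (h.injective (congrArg Subtype.val hab)))
      exact ⟨σ, ⟨h, hh, fun z => rfl⟩, fun i => Subtype.ext (hhxy i)⟩
    · rw [card_fixSet, ← Nat.card_eq_fintype_card]
      exact (hU.card_modEq_card_fixedPoints α).symm
  -- Gleason
  push Not at hall
  have hgrow : ∀ x : Fin k ↪ fixSet U, ∃ R : Subgroup (Perm (fixSet U)), R ≤ onSet G (fixSet U) ∧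
      IsPGroup p R ∧ ∀ z, (∀ σ ∈ R, σ z = z) ↔ ∃ i, x i = z := by
    intro x
    obtain ⟨P₁, hP₁⟩ := hall x
    obtain ⟨P, hP⟩ := exists_sylow_above (hUstab x) hU
    let P' : Subgroup (Perm α) := (P : Subgroup _).map (tupleStab G fun i => (x i : α)).subtype
    have hP'p : IsPGroup p P' := P.2.map _
    have hP'G : P' ≤ G := (Subgroup.map_subtype_le _).trans inf_le_left
    have hlt : U < P' := lt_of_le_of_ne hP fun e => hP₁ (by
      rw [P₁.card_eq_multiplicity, ← P.card_eq_multiplicity]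
      exact ((congrArg (fun A : Subgroup (Perm α) => Nat.card A) e).trans
        (Subgroup.card_map_of_injective Subtype.coe_injective)).symm)
    -- the normaliser grows
    haveI : Group.IsNilpotent P' := hP'p.isNilpotent
    have hlt' : U.subgroupOf P' < ⊤ := by
      rw [lt_top_iff_ne_top, Ne, Subgroup.subgroupOf_eq_top]
      exact fun hle => hlt.2 hle
    have hn := Group.normalizerCondition_of_isNilpotent (G := P') _ hlt'
    obtain ⟨w, hw, hwU⟩ := Set.exists_of_ssubset hn
    let N : Subgroup (Perm α) := P' ⊓ Subgroup.normalizer (U : Set (Perm α))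
    have hUN : U ≤ N := le_inf hlt.le Subgroup.le_normalizer
    have hwN : (w : Perm α) ∈ N := by
      refine ⟨w.2, Subgroup.mem_normalizer_iff.2 fun v => ?_⟩
      have hw' := Subgroup.mem_normalizer_iff.1 hw
      constructor
      · intro hv
        simpa [Subgroup.mem_subgroupOf] using (hw' ⟨v, hlt.le hv⟩).1 hv
      · intro hv
        have hv' : v ∈ P' := by
          have := P'.mul_mem (P'.mul_mem (P'.inv_mem w.2) (hlt.le hv)) w.2
          simpa [mul_assoc] using this
        exact (hw' ⟨v, hv'⟩).2 (by simpa [Subgroup.mem_subgroupOf] using hv)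
    have hNlt : U < N := lt_of_le_of_ne hUN fun e => hwU (by
      show (w : Perm α) ∈ U
      rw [e]; exact hwN)
    have hNp : IsPGroup p N := hP'p.to_le inf_le_left
    have hNG : N ≤ G := inf_le_left.trans hP'G
    have hNf : (fixSet N).card ≤ k := by
      by_contra hgt
      have h1 := hmax N (by simp [S, hNG, hNp]; omega)
      exact hNlt.ne (Subgroup.eq_of_le_of_card_ge hUN h1)
    have hxN : ∀ i, (x i : α) ∈ fixSet N := fun i => mem_fixSet.2 fun n hn => by
      obtain ⟨q, -, rfl⟩ := (Subgroup.mem_inf.1 hn).1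
      exact (mem_tupleStab.1 q.2).2 i
    have himg : (Finset.univ.map (e x)) = fixSet N := by
      refine Finset.eq_of_subset_of_card_le (fun z hz => ?_) (by simpa using hNf)
      obtain ⟨i, -, rfl⟩ := Finset.mem_map.1 hz
      exact hxN i
    have hnorm : ∀ n ∈ N, ∀ u, u ∈ U ↔ n * u * n⁻¹ ∈ U := fun n hn u =>
      Subgroup.mem_normalizer_iff.1 hn.2 u
    refine ⟨onSet N (fixSet U), onSet_mono hNG _, fun σ => ?_, fun z => ⟨fun hz => ?_, ?_⟩⟩
    · obtain ⟨g, hg, hgx⟩ := σ.2
      obtain ⟨m, hm⟩ := hNp ⟨g, hg⟩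
      refine ⟨m, Subtype.ext (Equiv.ext fun y => Subtype.ext ?_)⟩
      have hpow : ∀ (n : ℕ) (y : fixSet U), (g ^ n) (y : α) = ((σ.1 ^ n) y : fixSet U) := by
        intro n
        induction n with
        | zero => exact fun _ => rfl
        | succ n ih => intro y; rw [pow_succ', pow_succ', Perm.mul_apply, ih, hgx]; rfl
      have hm' : g ^ p ^ m = 1 := by simpa using congrArg Subtype.val hm
      rw [SubgroupClass.coe_pow, ← hpow, hm']
      rfl
    · have hzN : (z : α) ∈ fixSet N := mem_fixSet.2 fun n hn => by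
        let σ : Perm (fixSet U) := Equiv.ofBijective
          (fun y => (⟨n (y : α), normalizer_image_mem (hnorm n hn) y.2⟩ : fixSet U))
          (Finite.injective_iff_bijective.1 fun a b hab =>
            Subtype.ext (n.injective (congrArg Subtype.val hab)))
        exact congrArg Subtype.val (hz σ ⟨n, hn, fun y => rfl⟩)
      rw [← himg] at hzN
      obtain ⟨i, -, hi⟩ := Finset.mem_map.1 hzN
      exact ⟨i, Subtype.ext hi⟩
    · rintro ⟨i, rfl⟩ σ ⟨n, hn, hnx⟩
      exact Subtype.ext ((hnx (x i)).symm.trans (mem_fixSet.1 (hxN i) n hn))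
  refine ⟨?_, Or.inl ?_⟩
  · refine Cfsg.Agent.S0743.result (onSet G (fixSet U)) hp.out hk
      (by rwa [Fintype.card_coe]) fun s hs => ?_
    let x : Fin k ↪ fixSet U := (finCongr hs.symm).toEmbedding.trans
      (s.equivFin.symm.toEmbedding.trans (Function.Embedding.subtype _))
    obtain ⟨R, hRG, hR, hRf⟩ := hgrow x
    refine ⟨R.subgroupOf _, hR.comap_subtype, ?_⟩
    ext z
    rw [mem_fixedPoints]
    have hiff : (∀ r : R.subgroupOf (onSet G (fixSet U)), r • z = z) ↔ ∀ σ ∈ R, σ z = z :=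
      ⟨fun h σ hσ => h ⟨⟨σ, hRG hσ⟩, hσ⟩, fun h r => h _ r.2⟩
    rw [hiff, hRf, Finset.mem_coe]
    constructor
    · rintro ⟨i, rfl⟩; exact Subtype.prop _
    · intro hz
      exact ⟨finCongr hs (s.equivFin ⟨z, hz⟩), by simp [x]⟩
  · obtain ⟨t, -, ht⟩ := Finset.exists_subset_card_eq (s := fixSet U) (n := k) hUf.le
    obtain ⟨x⟩ : Nonempty (Fin k ↪ fixSet U) :=
      ⟨(Fin.castLEEmb hUf.le).trans (fixSet U).equivFin.symm.toEmbedding⟩
    obtain ⟨R, -, hR, hRf⟩ := hgrow x
    have h := hR.card_modEq_card_fixedPoints (fixSet U)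
    rw [Nat.card_eq_fintype_card, Fintype.card_coe,
      Nat.card_congr (show fixedPoints R (fixSet U) ≃ Fin k from
        (Equiv.subtypeEquivRight fun z => by
          rw [mem_fixedPoints]
          exact ⟨fun h => (hRf z).1 fun σ hσ => h ⟨σ, hσ⟩, fun h r => (hRf z).2 h r r.2⟩).trans
          (Equiv.ofInjective x x.injective).symm), Nat.card_fin] at h
    exact h

end CfsgLib.Homog
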