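/-
A four transitive group of degree at least seven has an involution with at least three fixed
points.
-/
import Cfsg.Agent.Perm.Homog.Normalizer
import Mathlib.GroupTheory.FixedPointFree
import Mathlib.Data.Fintype.CardEmbedding

set_option autoImplicit false
set_option linter.unusedSectionVars false
set_option linter.style.haveILetI false

namespace CfsgLib.Homog

open MulAction Equiv

universe u

section

variable {α : Type u} [Fintype α] [DecidableEq α]

/-- The involutions of `G` acting on the tuple `x` through `π`. -/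
noncomputable def patt (G : Subgroup (Perm α)) {k : ℕ} (x : Fin k ↪ α) (π : Perm (Fin k)) :
    Finset (Perm α) := by
  classical exact Finset.univ.filter fun u => u ∈ G ∧ u * u = 1 ∧ u ≠ 1 ∧ ∀ i, u (x i) = x (π i)

theorem mem_patt {G : Subgroup (Perm α)} {k : ℕ} {x : Fin k ↪ α} {π : Perm (Fin k)} {u : Perm α} :
    u ∈ patt G x π ↔ u ∈ G ∧ u * u = 1 ∧ u ≠ 1 ∧ ∀ i, u (x i) = x (π i) := by
  classical
  simp [patt]

theorem card_patt_eq {G : Subgroup (Perm α)} {k : ℕ} (hG : IsMultiplyPretransitive G α k)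
    (x y : Fin k ↪ α) (π : Perm (Fin k)) : (patt G x π).card = (patt G y π).card := by
  obtain ⟨g, hg, hgx⟩ := exists_map hG x y
  have hinv : ∀ i, g⁻¹ (y i) = x i := fun i => by rw [← hgx, Perm.inv_def, Equiv.symm_apply_apply]
  refine Finset.card_bij (fun u _ => g * u * g⁻¹) (fun u hu => ?_) (fun a _ b _ h => by simpa using h)
    (fun u hu => ⟨g⁻¹ * u * g, ?_, by simp [mul_assoc]⟩)
  · obtain ⟨h1, h2, h3, h4⟩ := mem_patt.1 hu
    refine mem_patt.2 ⟨G.mul_mem (G.mul_mem hg h1) (G.inv_mem hg), ?_, ?_, fun i => ?_⟩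
    · rw [show g * u * g⁻¹ * (g * u * g⁻¹) = g * (u * u) * g⁻¹ by group, h2]; group
    · simpa [mul_inv_eq_one] using h3
    · rw [Perm.mul_apply, Perm.mul_apply, hinv, h4, hgx]
  · obtain ⟨h1, h2, h3, h4⟩ := mem_patt.1 hu
    refine mem_patt.2 ⟨G.mul_mem (G.mul_mem (G.inv_mem hg) h1) hg, ?_, ?_, fun i => ?_⟩
    · rw [show g⁻¹ * u * g * (g⁻¹ * u * g) = g⁻¹ * (u * u) * g by group, h2]; group
    · intro e
      apply h3
      rw [show u = g * (g⁻¹ * u * g) * g⁻¹ by group, e]; group
    · rw [Perm.mul_apply, Perm.mul_apply, hgx, h4, hinv]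

/-- The size of a pattern class divides the order of an odd stabiliser. -/
theorem card_patt_dvd {G : Subgroup (Perm α)} {k : ℕ} (x : Fin k ↪ α) (π : Perm (Fin k))
    (hodd : Odd (Nat.card (tupleStab G x))) {t : Perm α} (ht : t ∈ patt G x π) :
    (patt G x π).card ∣ Nat.card (tupleStab G x) := by
  classical
  let K' : Subgroup (ConjAct (Perm α)) := (tupleStab G x).map ConjAct.toConjAct.toMonoidHom
  have hK' : Nat.card K' = Nat.card (tupleStab G x) :=
    Subgroup.card_map_of_injective (MulEquiv.injective _)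
  obtain ⟨h1, h2, h3, h4⟩ := mem_patt.1 ht
  have horb : orbit K' t = (patt G x π : Set (Perm α)) := by
    ext u
    constructor
    · rintro ⟨⟨_, m, hm, rfl⟩, rfl⟩
      obtain ⟨hmG, hmx⟩ := mem_tupleStab.1 hm
      show ConjAct.toConjAct m • t ∈ patt G x π
      rw [ConjAct.smul_def, ConjAct.ofConjAct_toConjAct]
      refine mem_patt.2 ⟨G.mul_mem (G.mul_mem hmG h1) (G.inv_mem hmG), ?_, ?_, fun i => ?_⟩
      · rw [show m * t * m⁻¹ * (m * t * m⁻¹) = m * (t * t) * m⁻¹ by group, h2]; group
      · simpa [mul_inv_eq_one] using h3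
      · rw [Perm.mul_apply, Perm.mul_apply, show m⁻¹ (x i) = x i by
          rw [Perm.inv_def, Equiv.symm_apply_eq, hmx], h4, hmx]
    · intro hu
      obtain ⟨u1, u2, u3, u4⟩ := mem_patt.1 hu
      obtain ⟨w, hw, hwt⟩ := exists_conj_of_pattern hodd h1 u1 h2 u2 fun i => by rw [h4, u4]
      refine ⟨⟨ConjAct.toConjAct w, w, hw, rfl⟩, ?_⟩
      show ConjAct.toConjAct w • t = u
      rw [ConjAct.smul_def, ConjAct.ofConjAct_toConjAct, hwt]
  have hc : (patt G x π).card = Nat.card (orbit K' t) := by
    rw [Nat.card_congr (Equiv.setCongr horb)]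
    simp
  rw [hc, ← hK', Nat.card_coe_set_eq, ← index_stabilizer]
  exact Subgroup.index_dvd_card _

/-- The involutions of `G`. -/
noncomputable def invols (G : Subgroup (Perm α)) : Finset (Perm α) := by
  classical exact Finset.univ.filter fun u : Perm α => u ∈ G ∧ u * u = 1 ∧ u ≠ 1

theorem mem_invols {G : Subgroup (Perm α)} {u : Perm α} :
    u ∈ invols G ↔ u ∈ G ∧ u * u = 1 ∧ u ≠ 1 := by
  classical
  simp [invols]

/-- Double counting of involutions against tuples. -/
theorem sum_patt (G : Subgroup (Perm α)) {k : ℕ} (π : Perm (Fin k)) (c : ℕ)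
    (hc : ∀ u ∈ G, u * u = 1 → u ≠ 1 →
      Fintype.card {x : Fin k ↪ α // ∀ i, u (x i) = x (π i)} = c) :
    ∑ x : Fin k ↪ α, (patt G x π).card = (invols G).card * c := by
  classical
  rw [invols, ← smul_eq_mul, ← Finset.sum_const]
  simp only [Finset.card_eq_sum_ones, patt, Finset.sum_filter]
  rw [Finset.sum_comm]
  refine Finset.sum_congr rfl fun u _ => ?_
  by_cases h : u ∈ G ∧ u * u = 1 ∧ u ≠ 1
  · rw [if_pos h, ← hc u h.1 h.2.1 h.2.2, Fintype.card_subtype, Finset.card_filter]
    exact Finset.sum_congr rfl fun x _ => if_congr (by simp [h.1, h.2.1, h.2.2]) rfl rfl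
  · rw [if_neg h, Finset.sum_eq_zero]
    intro x _
    rw [if_neg]
    exact fun h' => h ⟨h'.1, h'.2.1, h'.2.2.1⟩

theorem swap_apply_of_sq {u : Perm α} (hu : u * u = 1) (a : α) : u (u a) = a := by
  rw [← Perm.mul_apply, hu]; rfl

/-- Tuples swapped as a double transposition by an involution. -/
theorem card_double (u : Perm α) (hu : u * u = 1) :
    Fintype.card {x : Fin 4 ↪ α // ∀ i, u (x i) = x ((Equiv.swap 0 1 * Equiv.swap 2 3 : Perm (Fin 4)) i)} =
      u.support.card * (u.support.card - 2) := by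
  classical
  have h2 := swap_apply_of_sq hu
  let T := Σ a : u.support, {c : α // c ∈ (u.support.erase (a : α)).erase (u a)}
  have e : {x : Fin 4 ↪ α // ∀ i, u (x i) = x ((Equiv.swap 0 1 * Equiv.swap 2 3 : Perm (Fin 4)) i)} ≃ T :=
    { toFun := fun x =>
        ⟨⟨x.1 0, Perm.mem_support.2 (by rw [x.2 0]; exact fun e => absurd (x.1.injective e) (by decide))⟩,
          x.1 2, by
            have h0 : u (x.1 0) = x.1 1 := (x.2 0).trans (congrArg x.1 (by decide))
            rw [Finset.mem_erase, Finset.mem_erase]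
            refine ⟨?_, ?_, Perm.mem_support.2 ?_⟩
            · show x.1 2 ≠ u (x.1 0)
              rw [h0]; exact fun e => absurd (x.1.injective e) (by decide)
            · exact fun e => absurd (x.1.injective e) (by decide)
            · rw [x.2 2]; exact fun e => absurd (x.1.injective e) (by decide)⟩
      invFun := fun t => ⟨⟨![(t.1 : α), u t.1, t.2, u t.2], by
          obtain ⟨⟨a, ha⟩, c, hc⟩ := t
          rw [Finset.mem_erase, Finset.mem_erase] at hc
          obtain ⟨hc1, hc2, hc3⟩ := hc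
          rw [Perm.mem_support] at ha hc3
          intro i j hij
          fin_cases i <;> fin_cases j <;> simp at hij ⊢
          all_goals first
            | exact ha hij
            | exact ha hij.symm
            | exact hc3 hij
            | exact hc3 hij.symm
            | exact hc2 hij
            | exact hc2 hij.symm
            | exact hc1 hij
            | exact hc1 hij.symm
            | exact hc1 ((congrArg u hij).trans (h2 c)).symm
            | exact hc1 ((h2 c).symm.trans (congrArg u hij))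
            | exact hc2 (u.injective hij)
            | exact hc2 (u.injective hij).symm⟩, fun i => by fin_cases i <;> simp [h2, Equiv.swap_apply_def]⟩
      left_inv := fun x => by
        refine Subtype.ext (Function.Embedding.ext fun i => ?_)
        have h0 := (x.2 0).trans (congrArg x.1 (show (Equiv.swap 0 1 * Equiv.swap 2 3 : Perm (Fin 4)) 0 = 1 by decide))
        have h2' := (x.2 2).trans (congrArg x.1 (show (Equiv.swap 0 1 * Equiv.swap 2 3 : Perm (Fin 4)) 2 = 3 by decide))
        fin_cases i <;> simp [h0, h2']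
      right_inv := fun t => rfl }
  rw [Fintype.card_congr e, Fintype.card_sigma]
  rw [Finset.sum_congr rfl fun (a : u.support) _ => show
      Fintype.card {c : α // c ∈ (u.support.erase (a : α)).erase (u a)} = u.support.card - 2 by
    have ha := Perm.mem_support.1 a.2
    have hua : u (a : α) ∈ u.support.erase (a : α) :=
      Finset.mem_erase.2 ⟨ha, Perm.apply_mem_support.2 a.2⟩
    rw [Fintype.card_coe, Finset.card_erase_of_mem hua, Finset.card_erase_of_mem a.2]
    omega]
  simp

/-- Tuples on which an involution is a transposition fixing the last two entries. -/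
theorem card_single (u : Perm α) (hu : u * u = 1) :
    Fintype.card {x : Fin 4 ↪ α // ∀ i, u (x i) = x ((Equiv.swap 0 1 : Perm (Fin 4)) i)} =
      u.support.card * (u.supportᶜ.card * (u.supportᶜ.card - 1)) := by
  classical
  have h2 := swap_apply_of_sq hu
  let T := u.support × {q : {a : α // a ∈ u.supportᶜ} × {a : α // a ∈ u.supportᶜ} // q.1 ≠ q.2}
  have e : {x : Fin 4 ↪ α // ∀ i, u (x i) = x ((Equiv.swap 0 1 : Perm (Fin 4)) i)} ≃ T :=
    { toFun := fun x =>
        (⟨x.1 0, Perm.mem_support.2 (by rw [x.2 0]; exact fun e => absurd (x.1.injective e) (by decide))⟩,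
          ⟨(⟨x.1 2, by rw [Finset.mem_compl, Perm.notMem_support, x.2 2]; congr 1⟩,
            ⟨x.1 3, by rw [Finset.mem_compl, Perm.notMem_support, x.2 3]; congr 1⟩),
            fun e => absurd (x.1.injective (congrArg Subtype.val e)) (by decide)⟩)
      invFun := fun t => ⟨⟨![(t.1 : α), u t.1, t.2.1.1, t.2.1.2], by
          obtain ⟨⟨a, ha⟩, ⟨⟨⟨c, hc⟩, ⟨d, hd⟩⟩, hcd⟩⟩ := t
          rw [Finset.mem_compl, Perm.notMem_support] at hc hd
          rw [Perm.mem_support] at ha
          have hcd' : c ≠ d := fun e => hcd (Subtype.ext e)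
          intro i j hij
          fin_cases i <;> fin_cases j <;> simp at hij ⊢
          all_goals first
            | exact hcd' hij
            | exact hcd' hij.symm
            | exact ha hij
            | exact ha hij.symm
            | exact ha (by rw [hij, hc])
            | exact ha (by rw [← hij, hc])
            | exact ha (by rw [hij, hd])
            | exact ha (by rw [← hij, hd])
            | exact ha (u.injective (by rw [hij, hc]))
            | exact ha (u.injective (by rw [← hij, hc]))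
            | exact ha (u.injective (by rw [hij, hd]))
            | exact ha (u.injective (by rw [← hij, hd]))⟩, fun i => by
          have hc := Perm.notMem_support.1 (Finset.mem_compl.1 t.2.1.1.2)
          have hd := Perm.notMem_support.1 (Finset.mem_compl.1 t.2.1.2.2)
          fin_cases i <;> simp [h2, hc, hd, Equiv.swap_apply_def]⟩
      left_inv := fun x => by
        refine Subtype.ext (Function.Embedding.ext fun i => ?_)
        have h0 := (x.2 0).trans (congrArg x.1 (show (Equiv.swap 0 1 : Perm (Fin 4)) 0 = 1 by decide))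
        fin_cases i <;> simp [h0]
      right_inv := fun t => rfl }
  rw [Fintype.card_congr e, Fintype.card_prod, Fintype.card_coe]
  congr 1
  rw [Fintype.card_subtype, show (Finset.univ.filter fun q : {a : α // a ∈ u.supportᶜ} × {a : α // a ∈ u.supportᶜ} => q.1 ≠ q.2) =
      (Finset.univ : Finset {a : α // a ∈ u.supportᶜ}).offDiag by ext; simp,
    Finset.offDiag_card, Finset.card_univ, Fintype.card_coe, Nat.mul_sub_one]

end

set_option maxHeartbeats 1000000 in
/-- In a four transitive group of degree at least seven some involution fixes more than two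
points. -/
theorem exists_involution_fixing_three : ∀ (n : ℕ) {α : Type u} [Fintype α] [DecidableEq α]
    (G : Subgroup (Perm α)), Fintype.card α = n → IsMultiplyPretransitive G α 4 → 7 ≤ n →
    (∀ u ∈ G, u * u = 1 → u ≠ 1 → u.supportᶜ.card ≤ 2) → False := by
  intro n
  induction n using Nat.strong_induction_on with
  | _ n ih =>
  intro α _ _ G hn hG h7 hfix
  classical
  obtain ⟨x₀⟩ : Nonempty (Fin 4 ↪ α) :=
    Function.Embedding.nonempty_of_card_le (by rw [Fintype.card_fin, hn]; omega)
  let K := tupleStab G x₀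
  have hodd : ∀ x : Fin 4 ↪ α, Odd (Nat.card (tupleStab G x)) := by
    intro x
    by_contra hev
    obtain ⟨u, hu, hu2, hu1⟩ := exists_involution_of_even (Nat.not_odd_iff_even.1 hev)
    obtain ⟨huG, hux⟩ := mem_tupleStab.1 hu
    have h := hfix u huG hu2 hu1
    have h4 : (Finset.univ.map x).card ≤ u.supportᶜ.card := Finset.card_le_card fun z hz => by
      obtain ⟨i, -, rfl⟩ := Finset.mem_map.1 hz
      rw [Finset.mem_compl, Perm.notMem_support, hux]
    simp at h4
    omega
  -- patterns are realised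
  have hreal : ∀ (x : Fin 4 ↪ α) (π : Perm (Fin 4)), π * π = 1 → π ≠ 1 →
      (patt G x π).Nonempty := by
    intro x π hπ hπ1
    obtain ⟨g, hg, hgx⟩ := exists_map hG x (π.toEmbedding.trans x)
    obtain ⟨i, hi⟩ : ∃ i, π i ≠ i := by
      by_contra hall
      push Not at hall
      exact hπ1 (Equiv.ext hall)
    obtain ⟨u, hu, hu2, hu1, hux⟩ := exists_involution_pattern (hodd x) hg
      (fun i => by
        show g (g (x i)) = x i
        rw [hgx]; show g (x (π i)) = x i
        rw [hgx]; show x (π (π i)) = x i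
        rw [← Perm.mul_apply, hπ]; rfl)
      ⟨i, by show g (x i) ≠ x i; rw [hgx]; exact fun e => hi (x.injective e)⟩
    exact ⟨u, mem_patt.2 ⟨hu, hu2, hu1, fun i => (hux i).trans (hgx i)⟩⟩
  let π₁ : Perm (Fin 4) := Equiv.swap 0 1 * Equiv.swap 2 3
  let π₂ : Perm (Fin 4) := Equiv.swap 0 2 * Equiv.swap 1 3
  let π₃ : Perm (Fin 4) := Equiv.swap 0 3 * Equiv.swap 1 2
  let σ : Perm (Fin 4) := Equiv.swap 0 1
  obtain ⟨z, hz⟩ := hreal x₀ π₁ (by decide) (by decide)
  obtain ⟨hzG, hz2, hz1, hzx⟩ := mem_patt.1 hz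
  -- all involutions fix as many points as `z`
  have hclass : ∀ u ∈ G, u * u = 1 → u ≠ 1 → u.support.card = z.support.card := by
    intro u hu hu2 hu1
    have hsupp : 5 ≤ u.support.card := by
      have h := hfix u hu hu2 hu1
      rw [Finset.card_compl, hn] at h
      omega
    have hpos : 0 < Fintype.card {x : Fin 4 ↪ α // ∀ i, u (x i) = x (π₁ i)} := by
      rw [card_double u hu2]
      exact Nat.mul_pos (by omega) (by omega)
    obtain ⟨x, hx⟩ := (Fintype.card_pos_iff.1 hpos).some
    obtain ⟨g, hg, hgx⟩ := exists_map hG x x₀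
    obtain ⟨w, hw, hwe⟩ := exists_conj_of_pattern (hodd x₀) (t := g * u * g⁻¹) (u := z)
      (G.mul_mem (G.mul_mem hg hu) (G.inv_mem hg)) hzG
      (by rw [show g * u * g⁻¹ * (g * u * g⁻¹) = g * (u * u) * g⁻¹ by group, hu2]; group) hz2
      (fun i => by
        rw [Perm.mul_apply, Perm.mul_apply, show g⁻¹ (x₀ i) = x i by
          rw [← hgx, Perm.inv_def, Equiv.symm_apply_apply], hx, hgx, hzx])
    rw [← hwe, Perm.card_support_conj, Perm.card_support_conj]
  obtain ⟨t, ht⟩ := hreal x₀ σ (by decide) (by decide)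
  obtain ⟨htG, ht2, ht1, htx⟩ := mem_patt.1 ht
  have hsupp : z.support.card = n - 2 ∧ z.supportᶜ.card = 2 := by
    have h1 := hfix t htG ht2 ht1
    have h2 : 2 ≤ t.supportᶜ.card := by
      refine le_trans (le_of_eq (Finset.card_pair (a := x₀ 2) (b := x₀ 3)
        (fun e => absurd (x₀.injective e) (by decide))).symm) (Finset.card_le_card fun a ha => ?_)
      rw [Finset.mem_compl, Perm.notMem_support]
      rcases Finset.mem_insert.1 ha with rfl | ha
      · rw [htx]; congr 1
      · rw [Finset.mem_singleton.1 ha, htx]; congr 1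
    have h3 := hclass t htG ht2 ht1
    have h4 : t.supportᶜ.card = n - t.support.card := by rw [Finset.card_compl, hn]
    have h5 : z.supportᶜ.card = n - z.support.card := by rw [Finset.card_compl, hn]
    omega
  have hcompl : ∀ u ∈ G, u * u = 1 → u ≠ 1 → u.support.card = n - 2 ∧ u.supportᶜ.card = 2 := by
    intro u hu hu2 hu1
    have h := hclass u hu hu2 hu1
    rw [Finset.card_compl, hn, h, ← hn, ← Finset.card_compl, hsupp.2, hn]
    exact ⟨hsupp.1, rfl⟩
  -- the two counts
  have c1 := sum_patt G π₁ ((n - 2) * (n - 4)) fun u hu hu2 hu1 => by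
    rw [card_double u hu2, (hcompl u hu hu2 hu1).1]
    congr 1
  have c2 := sum_patt G σ ((n - 2) * 2) fun u hu hu2 hu1 => by
    rw [card_single u hu2, (hcompl u hu hu2 hu1).1, (hcompl u hu hu2 hu1).2]
  rw [Finset.sum_congr rfl fun x _ => card_patt_eq hG x x₀ π₁, Finset.sum_const, smul_eq_mul] at c1
  rw [Finset.sum_congr rfl fun x _ => card_patt_eq hG x x₀ σ, Finset.sum_const, smul_eq_mul] at c2
  have hN : 0 < (Finset.univ : Finset (Fin 4 ↪ α)).card := Finset.card_pos.2 ⟨x₀, Finset.mem_univ _⟩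
  have hrel : 2 * (patt G x₀ π₁).card = (n - 4) * (patt G x₀ σ).card := by
    refine Nat.eq_of_mul_eq_mul_left hN ?_
    rw [mul_left_comm, c1, mul_left_comm _ (n - 4), c2]
    ring
  have hd1 := card_patt_dvd x₀ π₁ (hodd x₀) hz
  have hd2 := card_patt_dvd x₀ σ (hodd x₀) ht
  have hi' : Odd (patt G x₀ π₁).card := (hodd x₀).of_dvd_nat hd1
  have hi : Odd (patt G x₀ σ).card := (hodd x₀).of_dvd_nat hd2
  obtain ⟨h, hh⟩ : ∃ h, n - 4 = 2 * h := by
    refine even_iff_exists_two_mul.1 ?_
    rcases Nat.even_or_odd (n - 4) with he | ho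
    · exact he
    · exfalso
      have := ho.mul hi
      rw [← hrel] at this
      exact Nat.not_even_iff_odd.2 this (even_two_mul _)
  have hrel' : (patt G x₀ π₁).card = h * (patt G x₀ σ).card := by
    rw [hh, mul_assoc] at hrel
    omega
  have hoh : Odd h := (Nat.odd_mul.1 (hrel' ▸ hi')).1
  have hh1 : h ≠ 1 := by omega
  obtain ⟨p, hp, hph⟩ := Nat.exists_prime_and_dvd hh1
  haveI : Fact p.Prime := ⟨hp⟩
  have hpodd : Odd p := hoh.of_dvd_nat hph
  have hpn : p ∣ n - 4 := hh ▸ hph.mul_left 2
  have hpK : p ∣ Nat.card K := (hrel' ▸ hph.mul_right _).trans hd1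
  obtain ⟨Q₀⟩ : Nonempty (Sylow p K) := inferInstance
  let Q : Subgroup (Perm α) := (Q₀ : Subgroup K).map K.subtype
  have hQp : IsPGroup p Q := Q₀.2.map _
  have hQK : Q ≤ K := Subgroup.map_subtype_le _
  have hQG : Q ≤ G := hQK.trans inf_le_left
  have hQ1 : Q ≠ ⊥ := fun e => by
    have h := Q₀.dvd_card_of_dvd_card hpK
    have hc : Nat.card Q = Nat.card (Q₀ : Subgroup K) :=
      Subgroup.card_map_of_injective K.subtype_injective
    rw [← hc] at h
    rw [e, Subgroup.card_bot] at h
    exact hp.one_lt.ne' (Nat.dvd_one.1 h)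
  by_cases hsemi : ∃ R : Subgroup (Perm α), R ≤ G ∧ IsPGroup p R ∧ R ≠ ⊥ ∧ 4 < (fixSet R).card
  · -- reduction to a smaller degree
    obtain ⟨R, hRG, hR, hR1, hRf⟩ := hsemi
    obtain ⟨F, hF4, hFn, hFG, hFmod⟩ := exists_smaller hG (by norm_num) hRG hR hR1 hRf
    have hF7 : 7 ≤ F.card := by
      have h' : p ∣ F.card - 4 := by
        rw [← Nat.modEq_iff_dvd' hF4.le]
        rcases hFmod with h | h
        · exact h.symm
        · exact (((Nat.modEq_iff_dvd' (by omega)).2 hpn).trans (hn ▸ h.symm))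
      have := Nat.le_of_dvd (by omega) h'
      have : 3 ≤ p := by
        obtain ⟨q, hq⟩ := hpodd
        have := hp.two_le
        omega
      omega
    refine ih F.card (hn ▸ hFn) (onSet G F) (Fintype.card_coe F) hFG hF7 fun σ hσ hσ2 hσ1 => ?_
    obtain ⟨g, hg, hgx⟩ := hσ
    -- a lift of two-power order
    obtain ⟨a, b, hb, hab⟩ := Nat.exists_eq_two_pow_mul_odd (n := orderOf g) (orderOf_pos g).ne'
    have hpow : ∀ (m : ℕ) (y : F), (g ^ m) (y : α) = ((σ ^ m) y : F) := by
      intro m
      induction m with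
      | zero => exact fun _ => rfl
      | succ m ihm => intro y; rw [pow_succ', pow_succ', Perm.mul_apply, ihm, hgx]; rfl
    have hσb : σ ^ b = σ := by
      obtain ⟨c, rfl⟩ := hb
      rw [pow_succ, pow_mul, pow_two, hσ2, one_pow, one_mul]
    obtain ⟨v, hv⟩ : ∃ v, g ^ b = v := ⟨_, rfl⟩
    have hvx : ∀ y : F, v (y : α) = σ y := fun y => by rw [← hv, hpow, hσb]
    have hv2a : v ^ (2 ^ a) = 1 := by rw [← hv, ← pow_mul, mul_comm, ← hab, pow_orderOf_eq_one]
    have hvG : v ∈ G := hv ▸ G.pow_mem hg b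
    have hv2 : v * v = 1 := by
      by_contra hne
      have hex : ∃ m, (v * v) ^ (2 ^ m) = 1 := ⟨a, by
        rw [← pow_two, ← pow_mul, mul_comm, pow_mul, hv2a, one_pow]⟩
      have hm := Nat.find_spec hex
      have hm0 : Nat.find hex ≠ 0 := fun e => hne (by simpa [e] using hm)
      obtain ⟨m, hm'⟩ := Nat.exists_eq_succ_of_ne_zero hm0
      have hmne := Nat.find_min hex (show m < Nat.find hex by omega)
      rw [hm', pow_succ, pow_mul, pow_two] at hm
      have hle := hfix _ (G.pow_mem (G.mul_mem hvG hvG) _) hm hmne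
      have hsub : F ⊆ ((v * v) ^ 2 ^ m).supportᶜ := fun y hy => by
        rw [Finset.mem_compl, Perm.notMem_support]
        refine Perm.pow_apply_eq_self_of_apply_eq_self ?_ _
        rw [Perm.mul_apply, hvx ⟨y, hy⟩, hvx, swap_apply_of_sq hσ2]
      have := Finset.card_le_card hsub
      omega
    have hv1 : v ≠ 1 := fun e => hσ1 (Equiv.ext fun y => Subtype.ext (by rw [← hvx, e]; rfl))
    refine le_trans ?_ (hfix v hvG hv2 hv1)
    refine Finset.card_le_card_of_injOn Subtype.val (fun y hy => ?_) Subtype.val_injective.injOn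
    simp only [Finset.mem_coe, Finset.mem_compl, Perm.notMem_support] at hy ⊢
    rw [hvx, hy]
  -- the semiregular case: three commuting double transpositions would invert `Q`
  push Not at hsemi
  have hlift : ∀ π : Perm (Fin 4), π * π = 1 → π ≠ 1 → ∃ v ∈ patt G x₀ π,
      ∀ q, q ∈ Q ↔ v * q * v⁻¹ ∈ Q := by
    intro π hπ hπ1
    obtain ⟨g, hg, hgx⟩ := exists_map hG x₀ (π.toEmbedding.trans x₀)
    have hst : tupleStab G (π.toEmbedding.trans x₀) = K := by
      ext m
      simp only [K, mem_tupleStab]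
      refine and_congr Iff.rfl ⟨fun h i => ?_, fun h i => h (π i)⟩
      simpa using h (π.symm i)
    obtain ⟨h, hhG, hn', hhx⟩ := normalizer_trans_of_sylow (p := p) (G := G) (x := x₀)
      (y := π.toEmbedding.trans x₀) (U := Q) (hst.symm ▸ hQK) hQp (by
        intro P
        rw [P.card_eq_multiplicity, show Nat.card Q = Nat.card (Q₀ : Subgroup K) from
          Subgroup.card_map_of_injective K.subtype_injective, Q₀.card_eq_multiplicity, hst])
      hg hgx hQK
    obtain ⟨i, hi⟩ : ∃ i, π i ≠ i := by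
      by_contra hall
      push Not at hall
      exact hπ1 (Equiv.ext hall)
    let H : Subgroup (Perm α) := G ⊓ Subgroup.normalizer (Q : Set (Perm α))
    obtain ⟨v, hv, hv2, hv1, hvx⟩ := exists_involution_pattern (G := H) (x := x₀)
      ((hodd x₀).of_dvd_nat (Subgroup.card_dvd_of_le (inf_le_inf_right _ inf_le_left)))
      (g := h) ⟨hhG, Subgroup.mem_normalizer_iff.2 hn'⟩
      (fun i => by
        rw [hhx]; show h (x₀ (π i)) = x₀ i
        rw [hhx]; show x₀ (π (π i)) = x₀ i
        rw [← Perm.mul_apply, hπ]; rfl)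
      ⟨i, by rw [hhx]; exact fun e => hi (x₀.injective e)⟩
    exact ⟨v, mem_patt.2 ⟨hv.1, hv2, hv1, fun i => (hvx i).trans (hhx i)⟩,
      Subgroup.mem_normalizer_iff.1 hv.2⟩
  have hinv : ∀ π : Perm (Fin 4), (∀ i, π i ≠ i) → ∀ v ∈ patt G x₀ π,
      (∀ q, q ∈ Q ↔ v * q * v⁻¹ ∈ Q) → ∀ q ∈ Q, v * q * v⁻¹ = q⁻¹ := by
    intro π hπ v hv hvQ q hq
    obtain ⟨hvG, hv2, hv1, hvx⟩ := mem_patt.1 hv
    let φ : Q → Q := fun q => ⟨v * q * v⁻¹, (hvQ _).1 q.2⟩
    have hfpf : MonoidHom.FixedPointFree φ := by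
      intro q hq'
      have hcomm : v * (q : Perm α) = (q : Perm α) * v := by
        have := congrArg Subtype.val hq'
        simp only [φ] at this
        calc v * (q : Perm α) = v * q * v⁻¹ * v := by group
          _ = _ := by rw [this]
      by_contra hq1
      have hF : ∀ a, v a = a → (q : Perm α) a = a := by
        intro a ha
        have ha' : v ((q : Perm α) a) = (q : Perm α) a := by
          rw [← Perm.mul_apply, hcomm, Perm.mul_apply, ha]
        have ha'' : v ((q : Perm α) ((q : Perm α) a)) = (q : Perm α) ((q : Perm α) a) := by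
          rw [← Perm.mul_apply, hcomm, Perm.mul_apply, ha']
        obtain ⟨j, hj⟩ := odd_orderOf (hodd x₀) (hQK q.2)
        by_contra hne
        have h2 : (q : Perm α) ((q : Perm α) a) = a := by
          obtain ⟨b, c, hbc, hsupp2⟩ := Finset.card_eq_two.1 (hcompl v hvG hv2 hv1).2
          have m1 : a ∈ v.supportᶜ := by simpa using ha
          have m2 : (q : Perm α) a ∈ v.supportᶜ := by simpa using ha'
          have m3 : (q : Perm α) ((q : Perm α) a) ∈ v.supportᶜ := by simpa using ha''
          have hne2 : (q : Perm α) ((q : Perm α) a) ≠ (q : Perm α) a :=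
            fun e => hne (Equiv.injective _ e)
          rw [hsupp2] at m1 m2 m3
          simp only [Finset.mem_insert, Finset.mem_singleton] at m1 m2 m3
          rcases m1 with e1 | e1 <;> rcases m2 with e2 | e2 <;> rcases m3 with e3 | e3 <;> first
            | exact e3.trans e1.symm
            | exact absurd (e2.trans e1.symm) hne
            | exact absurd (e3.trans e2.symm) hne2
        refine hne ?_
        have h3 : ((q : Perm α) ^ orderOf (q : Perm α)) a = (q : Perm α) a := by
          rw [hj, pow_succ', pow_mul, Perm.mul_apply]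
          congr 1
          exact Perm.pow_apply_eq_self_of_apply_eq_self (by rw [pow_two, Perm.mul_apply, h2]) j
        rw [pow_orderOf_eq_one] at h3
        exact h3.symm
      have hR := hsemi (Subgroup.zpowers (q : Perm α))
        (Subgroup.zpowers_le.2 (hQG q.2)) (hQp.to_le (Subgroup.zpowers_le.2 q.2))
        (by rw [Ne, Subgroup.zpowers_eq_bot]; exact fun e => hq1 (Subtype.ext e))
      obtain ⟨c, hc⟩ := Finset.card_pos.1 (show 0 < v.supportᶜ.card by
        rw [(hcompl v hvG hv2 hv1).2]; norm_num)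
      rw [Finset.mem_compl, Perm.notMem_support] at hc
      have hcx : ∀ i, c ≠ x₀ i := fun i e => hπ i (x₀.injective (by rw [← hvx, ← e, hc, e]))
      have hsub : insert c (Finset.univ.map x₀) ⊆ fixSet (Subgroup.zpowers (q : Perm α)) := by
        intro a ha
        have h1 : (q : Perm α) a = a := by
          rcases Finset.mem_insert.1 ha with rfl | ha
          · exact hF _ hc
          · obtain ⟨i, -, rfl⟩ := Finset.mem_map.1 ha
            exact (mem_tupleStab.1 (hQK q.2)).2 i
        refine mem_fixSet.2 fun w hw => ?_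
        obtain ⟨i, rfl⟩ := hw
        exact Perm.zpow_apply_eq_self_of_apply_eq_self h1 i
      have := Finset.card_le_card hsub
      rw [Finset.card_insert_of_notMem (by simpa using fun i e => hcx i e.symm)] at this
      simp at this
      omega
    let φ' : Q →* Q := MonoidHom.mk' φ fun a b => Subtype.ext (by simp [φ, mul_assoc])
    have hv' : v⁻¹ = v := inv_eq_of_mul_eq_one_right hv2
    have hinvol : Function.Involutive φ' := fun a => Subtype.ext (by
      show v * (v * a * v⁻¹) * v⁻¹ = a
      rw [hv', ← mul_assoc, ← mul_assoc, hv2, one_mul, mul_assoc, hv2, mul_one])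
    exact congrArg Subtype.val (congrFun
      (MonoidHom.FixedPointFree.coe_eq_inv_of_involutive (φ := φ') hfpf hinvol) ⟨q, hq⟩)
  obtain ⟨v₁, hv₁, hn₁⟩ := hlift π₁ (by decide) (by decide)
  obtain ⟨v₂, hv₂, hn₂⟩ := hlift π₂ (by decide) (by decide)
  obtain ⟨v₃, hv₃, hn₃⟩ := hlift π₃ (by decide) (by decide)
  have i₁ := hinv π₁ (by decide) v₁ hv₁ hn₁
  have i₂ := hinv π₂ (by decide) v₂ hv₂ hn₂
  have i₃ := hinv π₃ (by decide) v₃ hv₃ hn₃
  have hm : v₃ * (v₁ * v₂) ∈ K := mem_tupleStab.2 ⟨G.mul_mem (mem_patt.1 hv₃).1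
    (G.mul_mem (mem_patt.1 hv₁).1 (mem_patt.1 hv₂).1), fun i => by
      rw [Perm.mul_apply, Perm.mul_apply, (mem_patt.1 hv₂).2.2.2, (mem_patt.1 hv₁).2.2.2,
        (mem_patt.1 hv₃).2.2.2]
      congr 1
      revert i; decide⟩
  obtain ⟨m, hmdef⟩ : ∃ m, v₃ * (v₁ * v₂) = m := ⟨_, rfl⟩
  rw [hmdef] at hm
  have hmq : ∀ q ∈ Q, m * q * m⁻¹ = q⁻¹ := by
    intro q hq
    rw [← hmdef, show v₃ * (v₁ * v₂) * q * (v₃ * (v₁ * v₂))⁻¹ =
      v₃ * (v₁ * (v₂ * q * v₂⁻¹) * v₁⁻¹) * v₃⁻¹ by group, i₂ q hq, i₁ _ (Q.inv_mem hq), inv_inv,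
      i₃ q hq]
  obtain ⟨j, hj⟩ := odd_orderOf (hodd x₀) hm
  refine hQ1 ((Subgroup.eq_bot_iff_forall Q).2 fun q hq => ?_)
  have hpow : ∀ i : ℕ, m ^ (2 * i) * q * (m ^ (2 * i))⁻¹ = q := by
    intro i
    induction i with
    | zero => simp
    | succ i ih =>
      rw [show 2 * (i + 1) = 2 + 2 * i by ring, pow_add,
        show m ^ 2 * m ^ (2 * i) * q * (m ^ 2 * m ^ (2 * i))⁻¹ =
          m ^ 2 * (m ^ (2 * i) * q * (m ^ (2 * i))⁻¹) * (m ^ 2)⁻¹ by group, ih,
        show m ^ 2 * q * (m ^ 2)⁻¹ = m * (m * q * m⁻¹) * m⁻¹ by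
          rw [pow_two, mul_inv_rev]; simp [mul_assoc],
        hmq q hq, hmq _ (Q.inv_mem hq), inv_inv]
  have hqq : q⁻¹ = q := by
    have h1 : m ^ orderOf m * q * (m ^ orderOf m)⁻¹ = q := by rw [pow_orderOf_eq_one]; group
    rw [hj, pow_succ', show m * m ^ (2 * j) * q * (m * m ^ (2 * j))⁻¹ =
      m * (m ^ (2 * j) * q * (m ^ (2 * j))⁻¹) * m⁻¹ by group, hpow, hmq q hq] at h1
    exact h1
  obtain ⟨i, hi⟩ := odd_orderOf (hodd x₀) (hQK hq)
  have hq2 : q * q = 1 := by
    nth_rewrite 1 [← hqq]
    exact inv_mul_cancel q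
  have h1 := pow_orderOf_eq_one q
  rwa [hi, pow_succ, pow_mul, pow_two, hq2, one_pow, one_mul] at h1

end CfsgLib.Homog
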