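/-
Transfer to pointwise stabilisers and to subsets.
-/
import Cfsg.Agent.Perm.Homog.FourTrans
import Mathlib.GroupTheory.Perm.Sign
import Mathlib.GroupTheory.SpecificGroups.Alternating

set_option autoImplicit false
set_option linter.unusedSectionVars false
set_option linter.style.haveILetI false

namespace CfsgLib.Homog

open MulAction Equiv

universe u

variable {α : Type u} [Fintype α] [DecidableEq α]

/-- A highly transitive group has an involution with many fixed points. -/
theorem exists_involution_many_fixed {G : Subgroup (Perm α)} {j : ℕ}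
    (hG : IsMultiplyPretransitive G α (4 + j)) (hn : j + 7 ≤ Fintype.card α) :
    ∃ u ∈ G, u * u = 1 ∧ u ≠ 1 ∧ j + 3 ≤ u.supportᶜ.card := by
  by_contra hall
  push Not at hall
  obtain ⟨s, -, hs⟩ := Finset.exists_subset_card_eq (s := (Finset.univ : Finset α)) (n := j)
    (by rw [Finset.card_univ]; omega)
  let es : Fin j ↪ α :=
    (finCongr hs.symm).toEmbedding.trans (s.equivFin.symm.toEmbedding.trans (Function.Embedding.subtype _))
  have hes : ∀ i, es i ∈ s := fun i => Subtype.prop _
  have hes' : ∀ a ∈ s, ∃ i, es i = a := fun a ha =>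
    ⟨finCongr hs (s.equivFin ⟨a, ha⟩), by simp [es]⟩
  let G' := onSet (tupleStab G es) sᶜ
  have hG' : IsMultiplyPretransitive G' (sᶜ : Finset α) 4 := by
    refine transitive_of_exists_map fun x y => ?_
    have ext : ∀ x : Fin 4 ↪ (sᶜ : Finset α), Function.Injective
        (Fin.append (fun i => (x i : α)) es) := fun x => by
      refine Fin.append_injective_iff.2 ⟨fun a b h => x.injective (Subtype.ext h), es.injective,
        fun a b h => ?_⟩
      exact Finset.mem_compl.1 (x a).2 (h ▸ hes b)
    obtain ⟨g, hg, hgx⟩ := exists_map hG ⟨_, ext x⟩ ⟨_, ext y⟩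
    have hgs : ∀ i, g (es i) = es i := fun i => by simpa using hgx (Fin.natAdd 4 i)
    have hgc : ∀ z : (sᶜ : Finset α), g (z : α) ∈ sᶜ := fun z => by
      rw [Finset.mem_compl]
      intro h
      obtain ⟨i, hi⟩ := hes' _ h
      rw [← hgs i] at hi
      exact Finset.mem_compl.1 z.2 (g.injective hi ▸ hes i)
    let σ : Perm (sᶜ : Finset α) := Equiv.ofBijective (fun z => (⟨g z, hgc z⟩ : (sᶜ : Finset α)))
      (Finite.injective_iff_bijective.1 fun a b h => Subtype.ext (g.injective (congrArg Subtype.val h)))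
    exact ⟨σ, ⟨g, mem_tupleStab.2 ⟨hg, hgs⟩, fun _ => rfl⟩,
      fun i => Subtype.ext (by simpa [σ] using hgx (Fin.castAdd j i))⟩
  refine exists_involution_fixing_three _ G' rfl hG'
    (by rw [Fintype.card_coe, Finset.card_compl, hs]; omega) fun σ hσ hσ2 hσ1 => ?_
  obtain ⟨g, hg, hgx⟩ := hσ
  obtain ⟨hgG, hgs⟩ := mem_tupleStab.1 hg
  have hfixs : ∀ a ∈ s, g a = a := fun a ha => by
    obtain ⟨i, rfl⟩ := hes' a ha
    exact hgs i
  have hg2 : g * g = 1 := Equiv.ext fun a => by
    rw [Perm.mul_apply, Perm.one_apply]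
    by_cases ha : a ∈ s
    · rw [hfixs a ha, hfixs a ha]
    · rw [hgx ⟨a, Finset.mem_compl.2 ha⟩, hgx, swap_apply_of_sq hσ2]
  have hg1 : g ≠ 1 := fun e => hσ1 (Equiv.ext fun z => Subtype.ext (by rw [← hgx, e]; rfl))
  have h := hall g hgG hg2 hg1
  have hsub : s ∪ σ.supportᶜ.map (Function.Embedding.subtype _) ⊆ g.supportᶜ := by
    intro a ha
    rw [Finset.mem_compl, Perm.notMem_support]
    rcases Finset.mem_union.1 ha with ha | ha
    · exact hfixs a ha
    · obtain ⟨z, hz, rfl⟩ := Finset.mem_map.1 ha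
      rw [Finset.mem_compl, Perm.notMem_support] at hz
      exact (hgx z).trans (congrArg Subtype.val hz)
  have hcard := Finset.card_le_card hsub
  rw [Finset.card_union_of_disjoint, Finset.card_map, hs] at hcard
  · omega
  · rw [Finset.disjoint_left]
    intro a ha ha'
    obtain ⟨z, -, rfl⟩ := Finset.mem_map.1 ha'
    exact Finset.mem_compl.1 z.2 ha

/-- Induced groups containing the alternating group lift from a subset. -/
theorem alt_le_onSet_map {G : Subgroup (Perm α)} {F : Finset α} {D : Finset F}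
    (h : alternatingGroup D ≤ onSet (onSet G F) D) :
    alternatingGroup (D.map (Function.Embedding.subtype _) : Finset α) ≤
      onSet G (D.map (Function.Embedding.subtype _)) := by
  let e : D ≃ (D.map (Function.Embedding.subtype _) : Finset α) :=
    Equiv.ofBijective (fun z => ⟨((z : F) : α), Finset.mem_map_of_mem _ z.2⟩)
      ⟨fun a b hab => Subtype.ext (Subtype.ext (congrArg Subtype.val hab :)), fun w => by
        obtain ⟨z, hz, hzw⟩ := Finset.mem_map.1 w.2
        exact ⟨⟨z, hz⟩, Subtype.ext hzw⟩⟩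
  intro σ hσ
  have hσ' : e.symm.permCongr σ ∈ alternatingGroup D := by
    rw [Perm.mem_alternatingGroup, Perm.sign_permCongr]
    exact Perm.mem_alternatingGroup.1 hσ
  obtain ⟨τ, ⟨g, hg, hgτ⟩, hτ⟩ := h hσ'
  refine ⟨g, hg, fun w => ?_⟩
  obtain ⟨z, rfl⟩ := e.surjective w
  calc g ((e z : {a // a ∈ D.map (Function.Embedding.subtype _)}) : α)
      = ((τ (z : F) : F) : α) := hgτ _
    _ = (((e.symm.permCongr σ) z : D) : F) := by rw [hτ]
    _ = ((σ (e z) : {a // a ∈ D.map (Function.Embedding.subtype _)}) : α) := by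
        rw [Equiv.permCongr_apply, Equiv.symm_symm]
        exact congrArg Subtype.val (e.apply_symm_apply (σ (e z)))

/-- A group containing the transpositions at one point is the symmetric group. -/
theorem eq_top_of_star {β : Type u} [Finite β] [DecidableEq β] (H : Subgroup (Perm β)) (e : β)
    (h : ∀ z, z ≠ e → Equiv.swap e z ∈ H) : H = ⊤ := by
  rw [eq_top_iff, ← Perm.closure_isSwap, Subgroup.closure_le]
  rintro _ ⟨a, b, hab, rfl⟩
  by_cases ha : a = e
  · subst ha; exact h b (Ne.symm hab)
  by_cases hb : b = e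
  · subst hb; rw [Equiv.swap_comm]; exact h a ha
  have hconj : Equiv.swap a b = Equiv.swap e a * Equiv.swap e b * (Equiv.swap e a)⁻¹ := by
    rw [← Equiv.swap_apply_apply]
    rw [Equiv.swap_apply_left, Equiv.swap_apply_of_ne_of_ne hb (Ne.symm hab)]
  rw [hconj]
  exact H.mul_mem (H.mul_mem (h a ha) (h b hb)) (H.inv_mem (h a ha))

end CfsgLib.Homog
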