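/-
The arithmetic of the Livingstone–Wagner theorem for small `k`, and a criterion excluding groups
of prime degree by their order.
-/
import Mathlib.GroupTheory.Sylow
import Mathlib.GroupTheory.Perm.Cycle.Type
import Mathlib.GroupTheory.Subgroup.Centralizer
import Mathlib.GroupTheory.SpecificGroups.Cyclic
import Mathlib.Tactic

set_option autoImplicit false
set_option linter.unusedSectionVars false
set_option linter.style.haveILetI false

namespace CfsgLib.Homog

open Equiv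

/-- The solutions for `k = 3`. -/
theorem lw_arith_three {n e : ℕ} (hn : 6 ≤ n) (he : 2 ≤ e)
    (h1 : e * (n - 2) ∣ 6) : False := by
  have := Nat.le_of_dvd (by norm_num) h1
  have : 2 * (n - 2) ≤ e * (n - 2) := Nat.mul_le_mul_right _ he
  omega

theorem lw_table_four : ∀ e : Fin 7, ∀ n : Fin 16,
    ((e : ℕ) ∣ 6 ∧ 2 ≤ (e : ℕ) ∧ 8 ≤ (n : ℕ) ∧ (e : ℕ) * (n - 3) ∣ 24 ∧ (e : ℕ) ∣ n - 2) →
    (n : ℕ) = 11 ∧ ((n : ℕ) - 2) / e = 3 := by decide

theorem lw_table_five : ∀ e : Fin 25, (e : ℕ) ∣ 24 → ∀ n : Fin 65,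
    (2 ≤ (e : ℕ) ∧ 10 ≤ (n : ℕ) ∧ (e : ℕ) * (n - 4) ∣ 120 ∧ (e : ℕ) ∣ n - 3) →
    ((n : ℕ) = 19 ∧ (((n : ℕ) - 3) / e = 8 ∨ ((n : ℕ) - 3) / e = 4 ∨ ((n : ℕ) - 3) / e = 2)) ∨
      ((n : ℕ) = 12 ∧ ((n : ℕ) - 3) / e = 3) ∨ ((n : ℕ) = 24 ∧ ((n : ℕ) - 3) / e = 7) := by decide

/-- The solutions for `k = 4`. -/
theorem lw_arith_four {n d e : ℕ} (hn : 8 ≤ n) (hde : n - 2 = e * d) (he : 2 ≤ e)
    (h1 : e * (n - 3) ∣ 24) (h2 : e ∣ 6) : n = 11 ∧ d = 3 := by
  have := Nat.le_of_dvd (by norm_num) h1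
  have : 2 * (n - 3) ≤ e * (n - 3) := Nat.mul_le_mul_right _ he
  have he6 := Nat.le_of_dvd (by norm_num) h2
  obtain ⟨hn', hd⟩ := lw_table_four ⟨e, by omega⟩ ⟨n, by omega⟩ ⟨h2, he, hn, h1, d, hde⟩
  simp only at hn' hd
  rw [hde, Nat.mul_div_cancel_left _ (by omega)] at hd
  exact ⟨hn', hd⟩

/-- The solutions for `k = 5`. -/
theorem lw_arith_five {n d e : ℕ} (hn : 10 ≤ n) (hde : n - 3 = e * d) (he : 2 ≤ e)
    (h1 : e * (n - 4) ∣ 120) (h2 : e ∣ 24) :
    (n = 19 ∧ (d = 8 ∨ d = 4 ∨ d = 2)) ∨ (n = 12 ∧ d = 3) ∨ (n = 24 ∧ d = 7) := by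
  have := Nat.le_of_dvd (by norm_num) h1
  have : 2 * (n - 4) ≤ e * (n - 4) := Nat.mul_le_mul_right _ he
  have he24 := Nat.le_of_dvd (by norm_num) h2
  have h := lw_table_five ⟨e, by omega⟩ h2 ⟨n, by omega⟩ ⟨he, hn, h1, d, hde⟩
  simp only at h
  rwa [hde, Nat.mul_div_cancel_left _ (by omega)] at h

/-- An element commuting with a cycle on all the points is a power of it. -/
theorem mem_zpowers_of_commute_full {β : Type*} [Fintype β] [DecidableEq β] {g c : Perm β}
    (hg : g.IsCycle) (hfull : g.support = Finset.univ) (hc : Commute g c) :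
    c ∈ Subgroup.zpowers g := by
  obtain ⟨x, hx⟩ := hg.nonempty_support
  have hmov : ∀ y, g y ≠ y := fun y => Perm.mem_support.1 (hfull ▸ Finset.mem_univ y)
  obtain ⟨i, hi⟩ := hg.sameCycle (hmov x) (hmov (c x))
  refine ⟨i, Equiv.ext fun y => ?_⟩
  obtain ⟨l, rfl⟩ := hg.sameCycle (hmov x) (hmov y)
  rw [← Perm.mul_apply, ← zpow_add, add_comm, zpow_add, Perm.mul_apply, hi, ← Perm.mul_apply,
    ← Perm.mul_apply, (hc.zpow_left l).eq]

/-- A permutation group of prime degree whose order is impossible by Sylow's theorem. -/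
theorem prime_degree_false {β : Type*} [Fintype β] [DecidableEq β] (G : Subgroup (Perm β))
    {p m : ℕ} (hp : p.Prime) (hβ : Fintype.card β = p) (hG : Nat.card G = p * m) (hpm : ¬ p ∣ m)
    (h : ∀ a : ℕ, a ∣ p - 1 → a ∣ m → m / a % p ≠ 1) : False := by
  haveI := Fact.mk hp
  have hm0 : m ≠ 0 := fun e => hpm (e ▸ dvd_zero p)
  obtain ⟨P⟩ : Nonempty (Sylow p G) := inferInstance
  have hP : Nat.card P = p := by
    rw [P.card_eq_multiplicity, hG, Nat.factorization_mul hp.ne_zero hm0]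
    simp [hp.factorization_self, Nat.factorization_eq_zero_of_not_dvd hpm]
  haveI : IsCyclic (P : Subgroup G) := isCyclic_of_prime_card hP
  obtain ⟨N, hN⟩ : ∃ N : Subgroup G, N = Subgroup.normalizer ((P : Subgroup G) : Set G) := ⟨_, rfl⟩
  obtain ⟨g₀, hg₀⟩ := IsCyclic.exists_generator (α := (P : Subgroup G))
  have hord : orderOf ((g₀ : G) : Perm β) = p := by
    rw [Subgroup.orderOf_coe, Subgroup.orderOf_coe, orderOf_eq_card_of_forall_mem_zpowers hg₀, hP]
  have hcyc : ((g₀ : G) : Perm β).IsCycle :=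
    Perm.isCycle_of_prime_order'' (hβ ▸ hp) (hord.trans hβ.symm)
  have hfull : ((g₀ : G) : Perm β).support = Finset.univ := by
    refine Finset.eq_univ_of_card _ ?_
    rw [← hcyc.orderOf, hord, hβ]
  have hcent : ∀ c : G, c ∈ Subgroup.centralizer ((P : Subgroup G) : Set G) → c ∈ (P : Subgroup G) := by
    intro c hc
    have hcomm : Commute ((g₀ : G) : Perm β) (c : Perm β) :=
      congrArg Subtype.val (hc (g₀ : G) g₀.2)
    obtain ⟨i, hi⟩ := mem_zpowers_of_commute_full hcyc hfull hcomm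
    have : c = (g₀ : G) ^ i := Subtype.ext (by rw [← hi]; simp)
    rw [this]
    exact Subgroup.zpow_mem _ g₀.2 i
  let φ := (P : Subgroup G).normalizerMonoidHom
  have hker : φ.ker = (P : Subgroup G).subgroupOf (Subgroup.normalizer ((P : Subgroup G) : Set G)) := by
    rw [Subgroup.normalizerMonoidHom_ker]
    ext c
    simp only [Subgroup.mem_subgroupOf]
    refine ⟨hcent _, fun hc => fun x hx => ?_⟩
    letI := IsCyclic.commGroup (α := (P : Subgroup G))
    exact congrArg Subtype.val (mul_comm (⟨x, hx⟩ : (P : Subgroup G)) ⟨(c : G), hc⟩)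
  have hkercard : Nat.card φ.ker = p := by
    rw [hker]
    exact (Nat.card_congr (Subgroup.subgroupOfEquivOfLe Subgroup.le_normalizer).toEquiv).trans hP
  obtain ⟨a, ha⟩ : ∃ a, Nat.card φ.range = a := ⟨_, rfl⟩
  have ha1 : a ∣ p - 1 := by
    have h1 : Nat.card (MulAut (P : Subgroup G)) = p - 1 := by
      rw [IsCyclic.card_mulAut, hP, Nat.totient_prime hp]
    exact ha ▸ h1 ▸ Subgroup.card_subgroup_dvd_card _
  have hNcard : Nat.card (Subgroup.normalizer ((P : Subgroup G) : Set G)) = p * a := by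
    rw [← φ.ker.card_mul_index, hkercard, Subgroup.index_ker, ha]
  have hind := (Subgroup.normalizer ((P : Subgroup G) : Set G)).card_mul_index
  rw [hNcard, hG, mul_assoc, Nat.mul_right_inj hp.ne_zero] at hind
  have ha0 : a ≠ 0 := by
    intro e
    rw [e, zero_mul] at hind
    exact hm0 hind.symm
  refine h a ha1 ⟨_, hind.symm⟩ ?_
  rw [← hind, Nat.mul_div_cancel_left _ (Nat.pos_of_ne_zero ha0)]
  have h1 : Nat.card (Sylow p G) = (Subgroup.normalizer ((P : Subgroup G) : Set G)).index :=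
    P.card_eq_index_normalizer
  rw [← h1]
  exact Eq.trans (card_sylow_modEq_one p G) (Nat.mod_eq_of_lt hp.one_lt)

end CfsgLib.Homog
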