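/-
In a `k`-transitive group, `4 ≤ k`, some set of `k + 1` points has an induced group containing
the alternating group.
-/
import Cfsg.Agent.Perm.Homog.Complement
import Mathlib.Combinatorics.Enumerative.DoubleCounting

set_option autoImplicit false
set_option linter.unusedSectionVars false
set_option linter.style.haveILetI false

namespace CfsgLib.Homog

open MulAction Equiv

universe u

section Count

variable {α : Type u} [Fintype α] [DecidableEq α]

/-- The swap of the first two indices. -/
def firstSwap (m : ℕ) : Perm (Fin (m + 2)) := Equiv.swap 0 1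

theorem firstSwap_succ_succ (m : ℕ) (i : Fin m) : firstSwap m i.succ.succ = i.succ.succ := by
  refine Equiv.swap_apply_of_ne_of_ne (Fin.succ_ne_zero _) ?_
  intro h
  exact Fin.succ_ne_zero i (Fin.succ_inj.1 (h.trans Fin.succ_zero_eq_one.symm))

theorem card_swap_tuples (m : ℕ) (u : Perm α) (hu : u * u = 1) :
    Fintype.card {x : Fin (m + 2) ↪ α // ∀ i, u (x i) = x (firstSwap m i)} =
      u.support.card * u.supportᶜ.card.descFactorial m := by
  classical
  have h2 := swap_apply_of_sq hu
  have e : {x : Fin (m + 2) ↪ α // ∀ i, u (x i) = x (firstSwap m i)} ≃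
      u.support × (Fin m ↪ (u.supportᶜ : Finset α)) :=
    { toFun := fun x =>
        (⟨x.1 0, Perm.mem_support.2 (by
            rw [x.2 0]
            exact fun e => absurd (x.1.injective e) (by simp [firstSwap]))⟩,
          ⟨fun i => ⟨x.1 i.succ.succ, by
              rw [Finset.mem_compl, Perm.notMem_support, x.2, firstSwap_succ_succ]⟩,
            fun a b h => by simpa using x.1.injective (congrArg Subtype.val h)⟩)
      invFun := fun t => ⟨⟨Fin.cons (t.1 : α) (Fin.cons (u t.1) fun i => (t.2 i : α)), by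
          have hfix : ∀ i, u (t.2 i : α) = t.2 i := fun i =>
            Perm.notMem_support.1 (Finset.mem_compl.1 (t.2 i).2)
          have hmov := Perm.mem_support.1 t.1.2
          rw [Fin.cons_injective_iff, Fin.cons_injective_iff]
          refine ⟨?_, ?_, Subtype.val_injective.comp t.2.injective⟩
          · rintro ⟨i, hi⟩
            refine Fin.cases ?_ ?_ i hi
            · exact fun h => hmov h
            · intro i h
              simp only [Fin.cons_succ] at h
              exact hmov (by rw [← h, hfix])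
          · rintro ⟨i, hi⟩
            have hi' : (t.2 i : α) = u t.1 := hi
            exact hmov (u.injective (by rw [← hi', hfix])) ⟩, fun i => by
          refine Fin.cases ?_ (fun i => Fin.cases ?_ (fun i => ?_) i) i
          · simp [firstSwap]
          · simp [firstSwap, h2]
          · rw [firstSwap_succ_succ]
            simpa using Perm.notMem_support.1 (Finset.mem_compl.1 (t.2 i).2)⟩
      left_inv := fun x => by
        refine Subtype.ext (Function.Embedding.ext fun i => ?_)
        refine Fin.cases ?_ (fun i => Fin.cases ?_ (fun i => ?_) i) i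
        · simp
        · simpa [firstSwap] using x.2 0
        · simp only [Fin.cons_succ]; rfl
      right_inv := fun t => by simp }
  rw [Fintype.card_congr e, Fintype.card_prod, Fintype.card_embedding_eq, Fintype.card_coe,
    Fintype.card_coe, Fintype.card_fin]

theorem card_fixed_tuples (k : ℕ) (u : Perm α) :
    Fintype.card {x : Fin k ↪ α // ∀ i, u (x i) = x ((1 : Perm (Fin k)) i)} =
      u.supportᶜ.card.descFactorial k := by
  classical
  have e : {x : Fin k ↪ α // ∀ i, u (x i) = x ((1 : Perm (Fin k)) i)} ≃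
      (Fin k ↪ (u.supportᶜ : Finset α)) :=
    { toFun := fun x => ⟨fun i => ⟨x.1 i, Finset.mem_compl.2 (Perm.notMem_support.2 (x.2 i))⟩,
        fun a b h => x.1.injective (congrArg Subtype.val h)⟩
      invFun := fun y => ⟨y.trans (Function.Embedding.subtype _),
        fun i => Perm.notMem_support.1 (Finset.mem_compl.1 (y i).2)⟩
      left_inv := fun x => rfl
      right_inv := fun y => rfl }
  rw [Fintype.card_congr e, Fintype.card_embedding_eq, Fintype.card_coe, Fintype.card_fin]

/-- Double counting with a condition on the number of moved points. -/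
theorem card_patt_mul {G : Subgroup (Perm α)} {k : ℕ} (hG : IsMultiplyPretransitive G α k)
    (x₀ : Fin k ↪ α) (π : Perm (Fin k)) (s c : ℕ)
    (hc : ∀ u : Perm α, u * u = 1 → u.support.card = s →
      Fintype.card {x : Fin k ↪ α // ∀ i, u (x i) = x (π i)} = c) :
    Fintype.card (Fin k ↪ α) * ((patt G x₀ π).filter fun u => u.support.card = s).card =
      ((invols G).filter fun u => u.support.card = s).card * c := by
  classical
  have hconst : ∀ x : Fin k ↪ α, ((patt G x π).filter fun u => u.support.card = s).card =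
      ((patt G x₀ π).filter fun u => u.support.card = s).card := by
    intro x
    obtain ⟨g, hg, hgx⟩ := exists_map hG x x₀
    have hinv : ∀ i, g⁻¹ (x₀ i) = x i := fun i => by
      rw [← hgx, Perm.inv_def, Equiv.symm_apply_apply]
    refine Finset.card_bij (fun u _ => g * u * g⁻¹) (fun u hu => ?_)
      (fun a _ b _ h => by simpa using h) (fun u hu => ⟨g⁻¹ * u * g, ?_, by simp [mul_assoc]⟩)
    · rw [Finset.mem_filter] at hu ⊢
      obtain ⟨h1, h2, h3, h4⟩ := mem_patt.1 hu.1
      refine ⟨mem_patt.2 ⟨G.mul_mem (G.mul_mem hg h1) (G.inv_mem hg), ?_, ?_, fun i => ?_⟩, ?_⟩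
      · rw [show g * u * g⁻¹ * (g * u * g⁻¹) = g * (u * u) * g⁻¹ by group, h2]; group
      · simpa [mul_inv_eq_one] using h3
      · rw [Perm.mul_apply, Perm.mul_apply, hinv, h4, hgx]
      · rw [Perm.card_support_conj, hu.2]
    · rw [Finset.mem_filter] at hu ⊢
      obtain ⟨h1, h2, h3, h4⟩ := mem_patt.1 hu.1
      refine ⟨mem_patt.2 ⟨G.mul_mem (G.mul_mem (G.inv_mem hg) h1) hg, ?_, ?_, fun i => ?_⟩, ?_⟩
      · rw [show g⁻¹ * u * g * (g⁻¹ * u * g) = g⁻¹ * (u * u) * g by group, h2]; group
      · intro e
        apply h3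
        rw [show u = g * (g⁻¹ * u * g) * g⁻¹ by group, e]; group
      · rw [Perm.mul_apply, Perm.mul_apply, hgx, h4, hinv]
      · have := Perm.card_support_conj (σ := g⁻¹) (τ := u)
        rw [inv_inv] at this
        rw [this, hu.2]
  rw [← Finset.card_univ, ← smul_eq_mul, ← Finset.sum_const,
    ← Finset.sum_congr rfl fun x _ => hconst x, ← smul_eq_mul, ← Finset.sum_const]
  let I := (invols G).filter fun u => u.support.card = s
  let r : (Fin k ↪ α) → Perm α → Prop := fun x u => ∀ i, u (x i) = x (π i)
  have h := Finset.sum_card_bipartiteAbove_eq_sum_card_bipartiteBelow r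
    (s := (Finset.univ : Finset (Fin k ↪ α))) (t := I)
  refine Eq.trans (Finset.sum_congr rfl fun x _ => congrArg Finset.card ?_) (h.trans
    (Finset.sum_congr rfl fun u hu => ?_))
  · ext u
    simp only [Finset.bipartiteAbove, Finset.mem_filter, mem_patt, mem_invols, I, r]
    tauto
  · obtain ⟨hu1, hus⟩ := Finset.mem_filter.1 hu
    rw [← hc u (mem_invols.1 hu1).2.1 hus, Fintype.card_subtype]
    simp [Finset.bipartiteBelow, r]

end Count

variable {α : Type u} [Fintype α] [DecidableEq α]

/-- A swap of two points of `D` induced by an element of `G`. -/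
theorem swap_mem_onSet {G : Subgroup (Perm α)} {D : Finset α} {g : Perm α} (hg : g ∈ G) (a b : D)
    (ha : g (a : α) = b) (hb : g (b : α) = a)
    (hrest : ∀ z ∈ D, z ≠ a → z ≠ b → g z = z) : Equiv.swap a b ∈ onSet G D := by
  refine ⟨g, hg, fun z => ?_⟩
  by_cases h1 : z = a
  · subst h1; rw [Equiv.swap_apply_left, ha]
  by_cases h2 : z = b
  · subst h2; rw [Equiv.swap_apply_right, hb]
  rw [Equiv.swap_apply_of_ne_of_ne h1 h2,
    hrest z z.2 (fun e => h1 (Subtype.ext e)) (fun e => h2 (Subtype.ext e))]

/-- An injective tuple from two points and a finite set avoiding them. -/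
theorem exists_tuple {a b : α} {s : Finset α} {m : ℕ} (hab : a ≠ b) (ha : a ∉ s) (hb : b ∉ s)
    (hs : s.card = m) : ∃ x : Fin (m + 2) ↪ α, x 0 = a ∧ x 1 = b ∧
      (∀ i, x (Fin.succ (Fin.succ i)) ∈ s) ∧ ∀ z ∈ s, ∃ i, x (Fin.succ (Fin.succ i)) = z := by
  let es : Fin m → α := fun i => (s.equivFin.symm (finCongr hs.symm i) : α)
  have hes : ∀ i, es i ∈ s := fun i => Subtype.prop _
  have hinj : Function.Injective (Fin.cons a (Fin.cons b es) : Fin (m + 2) → α) := by
    rw [Fin.cons_injective_iff, Fin.cons_injective_iff]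
    refine ⟨?_, ?_, Subtype.val_injective.comp (s.equivFin.symm.injective.comp (finCongr hs.symm).injective)⟩
    · rintro ⟨i, hi⟩
      refine Fin.cases ?_ ?_ i hi
      · exact fun h => hab h.symm
      · intro i h; simp only [Fin.cons_succ] at h; exact ha (h ▸ hes i)
    · rintro ⟨i, hi⟩; exact hb (hi ▸ hes i)
  refine ⟨⟨_, hinj⟩, rfl, by simp, fun i => by simpa using hes i, fun z hz => ?_⟩
  exact ⟨finCongr hs (s.equivFin ⟨z, hz⟩), by simp [es]⟩

/-- The first two indices swapped: entries of a tuple. -/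
theorem forall_firstSwap {m : ℕ} {P : Fin (m + 2) → Prop} (h0 : P 0) (h1 : P 1)
    (h : ∀ i : Fin m, P i.succ.succ) : ∀ i, P i := fun i =>
  Fin.cases h0 (fun i => Fin.cases (by rw [Fin.succ_zero_eq_one]; exact h1) (fun i => h i) i) i

/-- An involution fixing exactly `m + 1` points, in an `(m + 2)`-transitive group with odd
stabilisers, has all transpositions of its fixed set lifted to its centralizer. -/
theorem swap_lift {G : Subgroup (Perm α)} {m : ℕ} (hG : IsMultiplyPretransitive G α (m + 2))
    (hodd : ∀ x : Fin (m + 2) ↪ α, Odd (Nat.card (tupleStab G x)))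
    {t : Perm α} (ht : t ∈ G) (ht2 : t * t = 1) (ht1 : t ≠ 1) (hF : t.supportᶜ.card = m + 1)
    {a b : α} (ha : t a = b) (hab : a ≠ b) {c d : α} (hc : t c = c) (hd : t d = d) :
    ∃ g ∈ G, g a = a ∧ g b = b ∧ g c = d ∧ g d = c ∧
      ∀ z, t z = z → z ≠ c → z ≠ d → g z = z := by
  classical
  have h2 := swap_apply_of_sq ht2
  have hb : t b = a := by rw [← ha, h2]
  obtain ⟨F, hFdef⟩ : ∃ F, t.supportᶜ = F := ⟨_, rfl⟩
  have hFmem : ∀ z, z ∈ F ↔ t z = z := fun z => by
    rw [← hFdef, Finset.mem_compl, Perm.notMem_support]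
  have haF : a ∉ F := fun h => hab (((hFmem a).1 h).symm.trans ha)
  have hbF : b ∉ F := fun h => hab (hb.symm.trans ((hFmem b).1 h))
  have hcF : c ∈ F := (hFmem c).2 hc
  rw [hFdef] at hF
  obtain ⟨x, hx0, hx1, hxs, hxall⟩ := exists_tuple (s := F.erase c) (m := m) hab
    (fun h => haF (Finset.mem_of_mem_erase h)) (fun h => hbF (Finset.mem_of_mem_erase h))
    (by rw [Finset.card_erase_of_mem hcF, hF]; omega)
  let π : Perm α := Equiv.swap c d
  have hπ0 : ∀ z, z ∉ F → π z = z := fun z hz => Equiv.swap_apply_of_ne_of_ne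
    (fun e => hz (e ▸ hcF)) (fun e => hz (e ▸ (hFmem d).2 hd))
  have hπF : ∀ z ∈ F, π z ∈ F := fun z hz => by
    simp only [π, Equiv.swap_apply_def]
    split_ifs
    exacts [(hFmem d).2 hd, hcF, hz]
  obtain ⟨y, hy⟩ : ∃ y : Fin (m + 2) ↪ α, ∀ i, y i = π (x i) :=
    ⟨x.trans π.toEmbedding, fun i => rfl⟩
  obtain ⟨g, hg, hgx⟩ := exists_map hG x y
  have hxT : ∀ i, t (x i) = x (firstSwap m i) := by
    refine forall_firstSwap ?_ ?_ fun i => ?_
    · simp [firstSwap, hx0, hx1, ha]
    · simp [firstSwap, hx0, hx1, hb]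
    · rw [firstSwap_succ_succ]; exact (hFmem _).1 (Finset.mem_of_mem_erase (hxs i))
  have hyT : ∀ i, t (y i) = y (firstSwap m i) := by
    refine forall_firstSwap ?_ ?_ fun i => ?_
    · simp [firstSwap, hy, hx0, hx1, hπ0 a haF, hπ0 b hbF, ha]
    · simp [firstSwap, hy, hx0, hx1, hπ0 a haF, hπ0 b hbF, hb]
    · rw [firstSwap_succ_succ, hy]
      exact (hFmem _).1 (hπF _ (Finset.mem_of_mem_erase (hxs i)))
  obtain ⟨w, hw, hwt⟩ := exists_conj_of_pattern (hodd y) (t := g * t * g⁻¹) (u := t)
    (G.mul_mem (G.mul_mem hg ht) (G.inv_mem hg)) ht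
    (by rw [show g * t * g⁻¹ * (g * t * g⁻¹) = g * (t * t) * g⁻¹ by group, ht2]; group) ht2
    (fun i => by
      rw [Perm.mul_apply, Perm.mul_apply, show g⁻¹ (y i) = x i by
        rw [← hgx, Perm.inv_def, Equiv.symm_apply_apply], hxT, hgx, hyT])
  obtain ⟨hwG, hwy⟩ := mem_tupleStab.1 hw
  obtain ⟨h, hh⟩ : ∃ h, w * g = h := ⟨_, rfl⟩
  have hcomm : ∀ z, h (t z) = t (h z) := fun z => by
    have h1 : h * t = t * h := by
      rw [← hh]
      nth_rewrite 2 [← hwt]
      group
    rw [← Perm.mul_apply, h1, Perm.mul_apply]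
  have hhx : ∀ i, h (x i) = π (x i) := fun i => by
    rw [← hh, Perm.mul_apply, hgx, hwy, hy]
  have hon : ∀ z ∈ F.erase c, h z = π z := fun z hz => by
    obtain ⟨i, rfl⟩ := hxall z hz
    exact hhx _
  have hhc : h c = π c := by
    by_contra hne
    have hm : h c ∈ F := (hFmem _).2 (by rw [← hcomm, hc])
    obtain ⟨z, hz⟩ : ∃ z, π z = h c := ⟨π.symm (h c), π.apply_symm_apply _⟩
    have hzF : z ∈ F := by
      by_contra hzF
      rw [hπ0 z hzF] at hz
      exact hzF (hz ▸ hm)
    have hzc : z ≠ c := fun e => hne (by rw [← hz, e])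
    have := hon z (Finset.mem_erase.2 ⟨hzc, hzF⟩)
    exact hzc (h.injective (this.trans hz))
  have hall : ∀ z ∈ F, h z = π z := fun z hz => by
    by_cases e : z = c
    · rw [e, hhc]
    · exact hon z (Finset.mem_erase.2 ⟨e, hz⟩)
  refine ⟨h, hh ▸ G.mul_mem hwG hg, ?_, ?_, ?_, ?_, fun z hz h1 h2 => ?_⟩
  · rw [← hx0, hhx, hx0, hπ0 a haF]
  · rw [← hx1, hhx, hx1, hπ0 b hbF]
  · rw [hhc]; exact Equiv.swap_apply_left c d
  · rw [hall d ((hFmem d).2 hd)]; exact Equiv.swap_apply_right c d
  · rw [hall z ((hFmem z).2 hz)]; exact Equiv.swap_apply_of_ne_of_ne h1 h2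

/-- The case of a semiregular stabiliser of even order. -/
theorem transpositions_of_exact {G : Subgroup (Perm α)} {m : ℕ}
    (hG : IsMultiplyPretransitive G α (m + 2))
    (hsemi : ∀ g ∈ G, g ≠ 1 → g.supportᶜ.card ≤ m + 2)
    {t : Perm α} (ht : t ∈ G) (ht2 : t * t = 1) (ht1 : t ≠ 1) (hF : t.supportᶜ.card = m + 2)
    (x : Fin (m + 2) ↪ α) {c : α} (hc : ∀ i, x i ≠ c) :
    ∃ u ∈ G, (∀ i, u (x i) = x (firstSwap m i)) ∧ u c = c := by
  classical
  obtain ⟨s, hs⟩ : ∃ s, t.support.card = s := ⟨_, rfl⟩
  have hns : ∀ u : Perm α, u.support.card = s → u.supportᶜ.card = m + 2 := fun u hu => by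
    rw [Finset.card_compl, hu, ← hs, ← Finset.card_compl, hF]
  have c1 := card_patt_mul hG x (firstSwap m) s (s * (m + 2).descFactorial m) fun u hu2 hus => by
    rw [card_swap_tuples m u hu2, hus, hns u hus]
  have c0 := card_patt_mul hG x 1 s ((m + 2).descFactorial (m + 2)) fun u _ hus => by
    rw [card_fixed_tuples, hns u hus]
  let J := (patt G x (firstSwap m)).filter fun u => u.support.card = s
  let Z := (patt G x 1).filter fun u => u.support.card = s
  have hdf : (m + 2).descFactorial (m + 2) = 2 * (m + 2).descFactorial m := by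
    rw [Nat.descFactorial_succ, Nat.descFactorial_succ]
    rw [show m + 2 - (m + 1) = 1 by omega, show m + 2 - m = 2 by omega, one_mul]
  have hZ : 0 < Z.card := by
    have hI : 0 < ((invols G).filter fun u => u.support.card = s).card :=
      Finset.card_pos.2 ⟨t, Finset.mem_filter.2 ⟨mem_invols.2 ⟨ht, ht2, ht1⟩, hs⟩⟩
    by_contra hZ0
    have h : Z.card = 0 := by omega
    rw [show ((patt G x 1).filter fun u => u.support.card = s).card = 0 from h, mul_zero] at c0
    have := Nat.mul_pos hI (Nat.descFactorial_pos.2 le_rfl : 0 < (m + 2).descFactorial (m + 2))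
    omega
  have hN : 0 < Fintype.card (Fin (m + 2) ↪ α) := Fintype.card_pos_iff.2 ⟨x⟩
  have hJZ : 2 * J.card = Z.card * s := by
    refine Nat.eq_of_mul_eq_mul_left hN ?_
    rw [← mul_assoc, mul_comm _ 2, mul_assoc, c1, ← mul_assoc (Fintype.card _), c0, hdf]
    ring
  let R := Finset.univ.filter fun z => ∀ i, x i ≠ z
  have hR : R.card = Fintype.card α - (m + 2) := by
    have : R = (Finset.univ.map x)ᶜ := by ext z; simp [R]
    rw [this, Finset.card_compl, Finset.card_map, Finset.card_univ, Fintype.card_fin]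
  have hsn : s = Fintype.card α - (m + 2) := by
    have := Finset.card_compl t.support
    rw [hs] at this
    have := t.support.card_le_univ
    omega
  let fx : Perm α → Finset α := fun u => R.filter fun z => u z = z
  have hfx : ∀ u ∈ J, (fx u).card = 2 := by
    intro u hu
    obtain ⟨hup, hus⟩ := Finset.mem_filter.1 hu
    obtain ⟨huG, hu2, hu1, hux⟩ := mem_patt.1 hup
    have hsplit : u.supportᶜ = (Finset.univ.map ((Fin.succEmb m).trans ((Fin.succEmb (m + 1)).trans x))) ∪ fx u := by
      ext z
      rw [Finset.mem_compl, Perm.notMem_support, Finset.mem_union, Finset.mem_map]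
      constructor
      · intro hz
        by_cases hzx : ∃ i, x i = z
        · obtain ⟨i, rfl⟩ := hzx
          rw [hux] at hz
          have hi : firstSwap m i = i := x.injective hz
          left
          refine ?_
          revert hi
          refine Fin.cases (fun h => absurd h (by simp [firstSwap])) (fun i => Fin.cases
            (fun h => absurd h (by simp [firstSwap])) (fun i _ => ⟨i, Finset.mem_univ _, rfl⟩) i) i
        · push Not at hzx
          exact Or.inr (by simp [fx, R, hzx, hz])
      · rintro (⟨i, -, rfl⟩ | hz)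
        · show u (x i.succ.succ) = x i.succ.succ
          rw [hux, firstSwap_succ_succ]
        · exact (Finset.mem_filter.1 hz).2
    have := congrArg Finset.card hsplit
    rw [hns u hus, Finset.card_union_of_disjoint, Finset.card_map, Finset.card_univ,
      Fintype.card_fin] at this
    · omega
    · rw [Finset.disjoint_left]
      intro z hz hz'
      obtain ⟨i, -, rfl⟩ := Finset.mem_map.1 hz
      simp only [fx, R, Finset.mem_filter, Finset.mem_univ, true_and] at hz'
      exact hz'.1 _ rfl
  have hdisj : (J : Set (Perm α)).PairwiseDisjoint fx := by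
    intro u hu v hv hne
    rw [Function.onFun, Finset.disjoint_left]
    intro z hzu hzv
    simp only [fx, R, Finset.mem_filter, Finset.mem_univ, true_and] at hzu hzv
    obtain ⟨huG, hu2, -, hux⟩ := mem_patt.1 (Finset.mem_filter.1 hu).1
    obtain ⟨hvG, hv2, -, hvx⟩ := mem_patt.1 (Finset.mem_filter.1 hv).1
    by_contra
    have hprod := hsemi (u * v) (G.mul_mem huG hvG) (fun e => hne (by
      have hv' : v⁻¹ = v := inv_eq_of_mul_eq_one_right hv2
      rw [← hv']; exact eq_inv_of_mul_eq_one_left e))
    have hsub : insert z (Finset.univ.map x) ⊆ (u * v).supportᶜ := fun a ha => by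
      rw [Finset.mem_compl, Perm.notMem_support, Perm.mul_apply]
      rcases Finset.mem_insert.1 ha with rfl | ha
      · rw [hzv.2, hzu.2]
      · obtain ⟨i, -, rfl⟩ := Finset.mem_map.1 ha
        rw [hvx, ← hux, swap_apply_of_sq hu2]
    have := Finset.card_le_card hsub
    rw [Finset.card_insert_of_notMem (by simpa using fun i => hzu.1 i), Finset.card_map,
      Finset.card_univ, Fintype.card_fin] at this
    omega
  have hunion : J.biUnion fx = R := by
    refine Finset.eq_of_subset_of_card_le
      (Finset.biUnion_subset.2 fun u _ => Finset.filter_subset _ _) ?_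
    rw [Finset.card_biUnion hdisj, Finset.sum_congr rfl hfx, Finset.sum_const, smul_eq_mul, hR,
      ← hsn, mul_comm, hJZ]
    exact Nat.le_mul_of_pos_left s hZ
  have hcR : c ∈ R := Finset.mem_filter.2 ⟨Finset.mem_univ _, hc⟩
  rw [← hunion] at hcR
  obtain ⟨u, hu, huc⟩ := Finset.mem_biUnion.1 hcR
  obtain ⟨huG, -, -, hux⟩ := mem_patt.1 (Finset.mem_filter.1 hu).1
  exact ⟨u, huG, hux, (Finset.mem_filter.1 huc).2⟩

end CfsgLib.Homog
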