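/-
In a `k`-transitive group, `4 ≤ k`, some set of `k + 1` points has an induced group containing
the alternating group: the induction.
-/
import Cfsg.Agent.Perm.Homog.SetAlternating

set_option autoImplicit false
set_option linter.unusedSectionVars false
set_option linter.style.haveILetI false

namespace CfsgLib.Homog

open MulAction Equiv

universe u

variable {α : Type u} [Fintype α] [DecidableEq α]

/-- A permutation of a subset extended by the identity. -/
theorem alt_le_onSet_of_alt_le {G : Subgroup (Perm α)} (h : alternatingGroup α ≤ G) (D : Finset α) :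
    alternatingGroup D ≤ onSet G D := fun σ hσ =>
  ⟨Perm.ofSubtype σ, h (by rw [Perm.mem_alternatingGroup, Perm.sign_ofSubtype]; exact hσ),
    fun z => Perm.ofSubtype_apply_coe σ z⟩

/-- A group as highly transitive as possible contains the alternating group. -/
theorem alt_le_of_trans {G : Subgroup (Perm α)} {k : ℕ} (hG : IsMultiplyPretransitive G α k)
    (hk : k ≤ Fintype.card α) (hn : Fintype.card α ≤ k + 2) : alternatingGroup α ≤ G := by
  haveI := hG
  exact _root_.IsMultiplyPretransitive.alternatingGroup_le α G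
    (isMultiplyPretransitive_of_le (n := k) (by rw [Nat.card_eq_fintype_card]; omega)
      (by rw [Nat.card_eq_fintype_card]; omega))

theorem pow_prime_order {g : Perm α} (hg : g ≠ 1) :
    ∃ p : ℕ, p.Prime ∧ ∃ j : ℕ, g ^ j ≠ 1 ∧ (g ^ j) ^ p = 1 := by
  have h1 : orderOf g ≠ 1 := fun h => hg (orderOf_eq_one_iff.1 h)
  obtain ⟨p, hp, d, hd⟩ := Nat.exists_prime_and_dvd h1
  refine ⟨p, hp, d, fun h => ?_, by rw [← pow_mul, mul_comm, ← hd, pow_orderOf_eq_one]⟩
  have h2 := Nat.le_of_dvd (by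
    rcases Nat.eq_zero_or_pos d with rfl | hd0
    · exact absurd hd (by simpa using (orderOf_pos g).ne')
    · exact hd0) (orderOf_dvd_of_pow_eq_one h)
  have h3 := orderOf_pos g
  rw [hd] at h2 h3
  have : 2 * d ≤ p * d := Nat.mul_le_mul_right d hp.two_le
  have : 0 < d := Nat.pos_of_mul_pos_left h3
  omega

theorem fixed_pow_subset {g : Perm α} (j : ℕ) : g.supportᶜ ⊆ (g ^ j).supportᶜ := fun z hz => by
  rw [Finset.mem_compl, Perm.notMem_support] at hz ⊢
  exact Perm.pow_apply_eq_self_of_apply_eq_self hz j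

set_option maxHeartbeats 1000000 in
/-- Some `(k + 1)`-set has an induced group containing the alternating group. -/
theorem exists_induces_alt : ∀ (n : ℕ) {α : Type u} [Fintype α] [DecidableEq α]
    (G : Subgroup (Perm α)) (k : ℕ), Fintype.card α = n → 4 ≤ k → k < n →
    IsMultiplyPretransitive G α k →
    ∃ D : Finset α, D.card = k + 1 ∧ alternatingGroup D ≤ onSet G D := by
  intro n
  induction n using Nat.strong_induction_on with
  | _ n ih =>
  intro α _ _ G k hn hk hkn hG
  classical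
  obtain ⟨m, rfl⟩ : ∃ m, k = m + 2 := ⟨k - 2, by omega⟩
  obtain ⟨D₀, -, hD₀⟩ := Finset.exists_subset_card_eq (s := (Finset.univ : Finset α)) (n := m + 2 + 1)
    (by rw [Finset.card_univ]; omega)
  by_cases hsmall : n ≤ m + 2 + 2
  · exact ⟨D₀, hD₀, alt_le_onSet_of_alt_le (alt_le_of_trans hG (by omega) (by omega)) D₀⟩
  by_cases hrec : ∃ p : ℕ, p.Prime ∧ ∃ Q : Subgroup (Perm α), Q ≤ G ∧ IsPGroup p Q ∧ Q ≠ ⊥ ∧
      m + 2 < (fixSet Q).card
  · obtain ⟨p, hp, Q, hQG, hQ, hQ1, hQf⟩ := hrec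
    haveI : Fact p.Prime := ⟨hp⟩
    obtain ⟨F, hF, hFn, hFG, -⟩ := exists_smaller hG (by omega) hQG hQ hQ1 hQf
    obtain ⟨D, hD, hDalt⟩ := ih F.card (by omega) (onSet G F) (m + 2) (Fintype.card_coe F) hk hF hFG
    exact ⟨D.map (Function.Embedding.subtype _), by rw [Finset.card_map, hD],
      alt_le_onSet_map hDalt⟩
  push Not at hrec
  have hsemi : ∀ g ∈ G, g ≠ 1 → g.supportᶜ.card ≤ m + 2 := by
    intro g hg hg1
    obtain ⟨p, hp, j, hj, hjp⟩ := pow_prime_order hg1
    refine (Finset.card_le_card (fixed_pow_subset (g := g) j)).trans ?_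
    rw [← card_fixed_zpowers]
    refine hrec p hp _ (Subgroup.zpowers_le.2 (G.pow_mem hg j)) ?_ (by rwa [Ne, Subgroup.zpowers_eq_bot])
    haveI : Fact p.Prime := ⟨hp⟩
    exact IsPGroup.of_card (n := 1) (by
      rw [Nat.card_zpowers, orderOf_eq_prime hjp hj, pow_one])
  by_cases hC1 : ∃ t ∈ G, t * t = 1 ∧ t ≠ 1 ∧ t.supportᶜ.card = m + 2
  · -- all transpositions
    obtain ⟨t, ht, ht2, ht1, htF⟩ := hC1
    refine ⟨D₀, hD₀, ?_⟩
    obtain ⟨e, he⟩ := Finset.card_pos.1 (show 0 < D₀.card by omega)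
    rw [eq_top_of_star (onSet G D₀) ⟨e, he⟩ fun z hz => ?_]
    · exact le_top
    have hze : (z : α) ≠ e := fun h => hz (Subtype.ext h)
    obtain ⟨c, hc⟩ := Finset.card_pos.1 (show 0 < ((D₀.erase e).erase (z : α)).card by
      rw [Finset.card_erase_of_mem (Finset.mem_erase.2 ⟨hze, z.2⟩), Finset.card_erase_of_mem he]
      omega)
    simp only [Finset.mem_erase] at hc
    obtain ⟨x, hx0, hx1, hxs, hxall⟩ := exists_tuple (a := e) (b := (z : α))
      (s := (((D₀.erase e).erase (z : α)).erase c)) (m := m) (Ne.symm hze)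
      (by simp) (by simp) (by
        rw [Finset.card_erase_of_mem (by simp [hc]), Finset.card_erase_of_mem
          (Finset.mem_erase.2 ⟨hze, z.2⟩), Finset.card_erase_of_mem he]
        omega)
    have hxc : ∀ i, x i ≠ c := forall_firstSwap (by rw [hx0]; exact Ne.symm hc.2.1)
      (by rw [hx1]; exact Ne.symm hc.1)
      fun i => (Finset.mem_erase.1 (hxs i)).1
    obtain ⟨u, hu, hux, huc⟩ := transpositions_of_exact hG hsemi ht ht2 ht1 htF x hxc
    refine swap_mem_onSet hu ⟨e, he⟩ z ?_ ?_ fun w hw h1 h2 => ?_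
    · show u e = (z : α)
      rw [← hx0, hux, ← hx1]; simp [firstSwap]
    · show u (z : α) = e
      rw [← hx1, hux, ← hx0]; simp [firstSwap]
    · by_cases hwc : w = c
      · subst hwc; exact huc
      obtain ⟨i, rfl⟩ := hxall w (Finset.mem_erase.2 ⟨hwc, Finset.mem_erase.2
        ⟨h2, Finset.mem_erase.2 ⟨h1, hw⟩⟩⟩)
      rw [hux, firstSwap_succ_succ]
  push Not at hC1
  have hodd : ∀ x : Fin (m + 2) ↪ α, Odd (Nat.card (tupleStab G x)) := by
    intro x
    by_contra hev
    obtain ⟨u, hu, hu2, hu1⟩ := exists_involution_of_even (Nat.not_odd_iff_even.1 hev)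
    obtain ⟨huG, hux⟩ := mem_tupleStab.1 hu
    have h1 : m + 2 ≤ u.supportᶜ.card := by
      refine le_trans (le_of_eq ?_) (Finset.card_le_card (s := Finset.univ.map x) fun z hz => ?_)
      · rw [Finset.card_map, Finset.card_univ, Fintype.card_fin]
      · obtain ⟨i, -, rfl⟩ := Finset.mem_map.1 hz
        rw [Finset.mem_compl, Perm.notMem_support, hux]
    exact hC1 u huG hu2 hu1 (le_antisymm (hsemi u huG hu1) h1)
  obtain ⟨j, hj⟩ : ∃ j, m + 2 = 4 + j := ⟨m + 2 - 4, by omega⟩
  obtain ⟨t, ht, ht2, ht1, htf⟩ := exists_involution_many_fixed (j := j) (hj ▸ hG) (by omega)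
  have hF : t.supportᶜ.card = m + 1 := by
    have := hsemi t ht ht1
    have := hC1 t ht ht2 ht1
    omega
  have htt := swap_apply_of_sq ht2
  obtain ⟨F, hFdef⟩ : ∃ F, t.supportᶜ = F := ⟨_, rfl⟩
  have hFmem : ∀ z, z ∈ F ↔ t z = z := fun z => by
    rw [← hFdef, Finset.mem_compl, Perm.notMem_support]
  rw [hFdef] at hF
  obtain ⟨a, ha⟩ : ∃ a, t a ≠ a := by
    by_contra hall
    push Not at hall
    exact ht1 (Equiv.ext hall)
  obtain ⟨b, hb⟩ : ∃ b, t a = b := ⟨_, rfl⟩
  rw [hb] at ha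
  have haF : a ∉ F := fun h => ha (hb.symm.trans ((hFmem a).1 h))
  have hbF : b ∉ F := fun h => ha (by
    have h1 := (hFmem b).1 h
    rw [← hb, htt] at h1
    rw [← hb]; exact h1.symm)
  obtain ⟨c, hcF, d, hdF, hcd⟩ := Finset.one_lt_card.1 (show 1 < F.card by omega)
  obtain ⟨e, heE⟩ := Finset.card_pos.1 (show 0 < ((F.erase c).erase d).card by
    rw [Finset.card_erase_of_mem (Finset.mem_erase.2 ⟨Ne.symm hcd, hdF⟩),
      Finset.card_erase_of_mem hcF]
    omega)
  simp only [Finset.mem_erase] at heE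
  obtain ⟨hed, hec, heF⟩ := heE
  obtain ⟨s, hs⟩ : ∃ s, insert a (insert b (((F.erase c).erase d).erase e)) = s := ⟨_, rfl⟩
  have hscard : s.card = m := by
    rw [← hs, Finset.card_insert_of_notMem, Finset.card_insert_of_notMem,
      Finset.card_erase_of_mem (by simp [hed, hec, heF]),
      Finset.card_erase_of_mem (Finset.mem_erase.2 ⟨Ne.symm hcd, hdF⟩),
      Finset.card_erase_of_mem hcF]
    · omega
    · exact fun h => hbF (Finset.mem_of_mem_erase (Finset.mem_of_mem_erase (Finset.mem_of_mem_erase h)))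
    · simp only [Finset.mem_insert, not_or]
      exact ⟨Ne.symm ha,
        fun h => haF (Finset.mem_of_mem_erase (Finset.mem_of_mem_erase (Finset.mem_of_mem_erase h)))⟩
  have hmems : ∀ z, z ∈ s ↔ z = a ∨ z = b ∨ (z ∈ F ∧ z ≠ c ∧ z ≠ d ∧ z ≠ e) := fun z => by
    rw [← hs]; simp only [Finset.mem_insert, Finset.mem_erase]; tauto
  obtain ⟨x, hx0, hx1, hxs, hxall⟩ := exists_tuple (s := s) (m := m) hcd
    (fun h => by
      rcases (hmems c).1 h with h' | h' | h'
      exacts [haF (h' ▸ hcF), hbF (h' ▸ hcF), h'.2.1 rfl])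
    (fun h => by
      rcases (hmems d).1 h with h' | h' | h'
      exacts [haF (h' ▸ hdF), hbF (h' ▸ hdF), h'.2.2.1 rfl])
    hscard
  obtain ⟨g, hg, hgx⟩ := exists_map hG x ((firstSwap m).toEmbedding.trans x)
  have hinvol : ∀ i, firstSwap m (firstSwap m i) = i := fun i => Equiv.swap_apply_self 0 1 i
  obtain ⟨u, hu, hu2, -, hux⟩ := exists_involution_pattern (hodd x) hg
    (fun i => by
      rw [hgx]; show g (x (firstSwap m i)) = x i
      rw [hgx]; show x (firstSwap m (firstSwap m i)) = x i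
      rw [hinvol])
    ⟨0, by rw [hgx]; exact fun h => absurd (x.injective h) (by simp [firstSwap])⟩
  have hux' : ∀ i, u (x i) = x (firstSwap m i) := fun i => (hux i).trans (hgx i)
  have hus : ∀ z ∈ s, u z = z := fun z hz => by
    obtain ⟨i, rfl⟩ := hxall z hz
    rw [hux', firstSwap_succ_succ]
  have huc : u c = d := by rw [← hx0, hux', ← hx1]; simp [firstSwap]
  have hud : u d = c := by rw [← hx1, hux', ← hx0]; simp [firstSwap]
  have hua : u a = a := hus a ((hmems a).2 (Or.inl rfl))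
  have hub : u b = b := hus b ((hmems b).2 (Or.inr (Or.inl rfl)))
  have hta : t b = a := by rw [← hb, htt]
  have hpres : ∀ i, t (u (t (x i))) = u (x i) := by
    refine forall_firstSwap ?_ ?_ fun i => ?_
    · rw [hx0, (hFmem c).1 hcF, huc, (hFmem d).1 hdF]
    · rw [hx1, (hFmem d).1 hdF, hud, (hFmem c).1 hcF]
    · rcases (hmems _).1 (hxs i) with h | h | h
      · rw [h, hb, hub, hta, hua]
      · rw [h, hta, hua, hb, hub]
      · rw [(hFmem _).1 h.1, hus _ (hxs i), (hFmem _).1 h.1]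
  obtain ⟨v, hv, hv2, hvt, hvx⟩ := exists_commuting_pattern (hodd x) ht hu ht2 hu2
    (fun i => ⟨firstSwap m i, hux' i⟩) hpres
  have hvc : v c = d := by rw [← hx0, hvx, hx0, huc]
  have hvd : v d = c := by rw [← hx1, hvx, hx1, hud]
  have hvs : ∀ z ∈ s, v z = z := fun z hz => by
    obtain ⟨i, rfl⟩ := hxall z hz
    rw [hvx, hux', firstSwap_succ_succ]
  have hva : v a = a := hvs a ((hmems a).2 (Or.inl rfl))
  have hvb : v b = b := hvs b ((hmems b).2 (Or.inr (Or.inl rfl)))
  have hve : v e = e := by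
    have hm : v e ∈ F := (hFmem _).2 (by
      rw [← Perm.mul_apply, hvt, Perm.mul_apply, (hFmem e).1 heF])
    by_contra hne
    have h1 : v e ≠ c := fun h => hed (v.injective (h.trans hvd.symm))
    have h2 : v e ≠ d := fun h => hec (v.injective (h.trans hvc.symm))
    exact hne (v.injective (hvs (v e) ((hmems _).2 (Or.inr (Or.inr ⟨hm, h1, h2, hne⟩)))))
  have hv1 : v ≠ 1 := fun h => hcd (by rw [← hvc, h]; rfl)
  have hes : e ∉ s := fun h => by
    rcases (hmems e).1 h with h' | h' | h'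
    exacts [haF (h' ▸ heF), hbF (h' ▸ heF), h'.2.2.2 rfl]
  have hvF : v.supportᶜ = insert e s := by
    symm
    refine Finset.eq_of_subset_of_card_le (fun z hz => ?_) ?_
    · rw [Finset.mem_compl, Perm.notMem_support]
      rcases Finset.mem_insert.1 hz with rfl | hz
      exacts [hve, hvs z hz]
    · rw [Finset.card_insert_of_notMem hes, hscard]
      have := hsemi v hv hv1
      have := hC1 v hv hv2 hv1
      omega
  have hvFc : v.supportᶜ.card = m + 1 := by rw [hvF, Finset.card_insert_of_notMem hes, hscard]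
  -- the set
  obtain ⟨D, hDdef⟩ : ∃ D, insert a (insert b F) = D := ⟨_, rfl⟩
  have hD : D.card = m + 2 + 1 := by
    rw [← hDdef, Finset.card_insert_of_notMem, Finset.card_insert_of_notMem hbF, hF]
    simp only [Finset.mem_insert, not_or]
    exact ⟨Ne.symm ha, haF⟩
  have hmemD : ∀ z, z ∈ D ↔ z = a ∨ z = b ∨ z ∈ F := fun z => by
    rw [← hDdef]; simp [or_assoc]
  refine ⟨D, hD, ?_⟩
  have heD : e ∈ D := (hmemD e).2 (Or.inr (Or.inr heF))
  rw [eq_top_of_star (onSet G D) ⟨e, heD⟩ fun z hz => ?_]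
  · exact le_top
  have hze : (z : α) ≠ e := fun h => hz (Subtype.ext h)
  by_cases hzF : (z : α) ∈ F
  · obtain ⟨h, hh, hha, hhb, hhe, hhz, hrest⟩ := swap_lift hG hodd ht ht2 ht1 (hFdef ▸ hF) hb
      (Ne.symm ha) ((hFmem e).1 heF) ((hFmem _).1 hzF)
    refine swap_mem_onSet hh _ _ hhe hhz fun w hw h1 h2 => ?_
    rcases (hmemD w).1 hw with rfl | rfl | hwF
    exacts [hha, hhb, hrest w ((hFmem w).1 hwF) h1 h2]
  · have hzab : (z : α) = a ∨ (z : α) = b := by
      rcases (hmemD z).1 z.2 with h | h | h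
      exacts [Or.inl h, Or.inr h, absurd h hzF]
    have hzv : v (z : α) = z := by
      rcases hzab with h | h <;> rw [h]
      exacts [hva, hvb]
    obtain ⟨h, hh, hhc, hhd, hhe, hhz, hrest⟩ := swap_lift hG hodd hv hv2 hv1 hvFc hvc hcd hve hzv
    refine swap_mem_onSet hh _ _ hhe hhz fun w hw h1 h2 => ?_
    by_cases hwc : w = c
    · rw [hwc]; exact hhc
    by_cases hwd : w = d
    · rw [hwd]; exact hhd
    refine hrest w ?_ h1 h2
    rcases (hmemD w).1 hw with rfl | rfl | hwF
    · exact hva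
    · exact hvb
    · exact hvs w ((hmems w).2 (Or.inr (Or.inr ⟨hwF, hwc, hwd, h1⟩)))

end CfsgLib.Homog
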