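/-
The Livingstone–Wagner theorem.
-/
import Cfsg.Agent.Perm.Homog.SetAlternatingMain
import Cfsg.Agent.Perm.Homog.LWArith
import Cfsg.Agent.Perm.Multi
import Cfsg.Agent.S0736
import Cfsg.Agent.S0744
import Mathlib.GroupTheory.GroupAction.SubMulAction.Combination

set_option autoImplicit false
set_option linter.unusedSectionVars false
set_option linter.style.haveILetI false

namespace CfsgLib.Homog

open MulAction Equiv
open scoped Pointwise

universe u

variable {α : Type u} [Fintype α] [DecidableEq α] {G : Subgroup (Perm α)}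

theorem exists_image_eq {k : ℕ} (hh : IsPretransitive G (Set.powersetCard α k)) {s t : Finset α}
    (hs : s.card = k) (ht : t.card = k) : ∃ g ∈ G, s.image g = t := by
  obtain ⟨g, hg⟩ := hh.exists_smul_eq (⟨s, hs⟩ : Set.powersetCard α k) ⟨t, ht⟩
  refine ⟨g, g.2, ?_⟩
  have h := congrArg Subtype.val hg
  exact h

theorem homog_pred {k : ℕ} (hk : 2 ≤ k) (hkn : 2 * k ≤ Fintype.card α + 1)
    (hh : IsPretransitive G (Set.powersetCard α k)) :
    IsPretransitive G (Set.powersetCard α (k - 1)) :=
  Cfsg.Agent.S0736.result G hk hh fun q _ hqk => by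
    have := Nat.le_of_dvd (by omega) hqk
    omega

theorem card_fixingSubgroup_const {k : ℕ} (hh : IsPretransitive G (Set.powersetCard α k))
    {s t : Finset α} (hs : s.card = k) (ht : t.card = k) :
    Nat.card (fixingSubgroup G (s : Set α)) = Nat.card (fixingSubgroup G (t : Set α)) := by
  obtain ⟨g, hg, rfl⟩ := exists_image_eq hh hs ht
  refine Nat.card_congr (Equiv.subtypeEquiv (MulAut.conj (⟨g, hg⟩ : G)).toEquiv fun m => ?_)
  change m ∈ fixingSubgroup G (s : Set α) ↔
    (⟨g, hg⟩ : G) * m * (⟨g, hg⟩ : G)⁻¹ ∈ fixingSubgroup G ((s.image g : Finset α) : Set α)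
  simp only [mem_fixingSubgroup_iff, Subgroup.smul_def, Perm.smul_def, Finset.mem_coe,
    Subgroup.coe_mul, Subgroup.coe_inv, Perm.mul_apply]
  refine ⟨fun h y hy => ?_, fun h y hy => ?_⟩
  · obtain ⟨z, hz, rfl⟩ := Finset.mem_image.1 hy
    rw [Perm.inv_def, Equiv.symm_apply_apply, h z hz]
  · have h1 := h (g y) (Finset.mem_image_of_mem _ hy)
    rw [Perm.inv_def, Equiv.symm_apply_apply] at h1
    exact g.injective h1

theorem transitive_zero (G : Subgroup (Perm α)) : IsMultiplyPretransitive G α 0 :=
  transitive_of_exists_map fun _ _ => ⟨1, G.one_mem, fun i => i.elim0⟩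

theorem transitive_one_of_homog (hh : IsPretransitive G (Set.powersetCard α 1)) :
    IsMultiplyPretransitive G α 1 := by
  refine transitive_of_exists_map fun x y => ?_
  obtain ⟨g, hg, hgx⟩ := exists_image_eq hh (Finset.card_singleton (x 0)) (Finset.card_singleton (y 0))
  rw [Finset.image_singleton, Finset.singleton_inj] at hgx
  exact ⟨g, hg, fun i => by rwa [Fin.eq_zero i]⟩

theorem card_eq_descFactorial_mul {j : ℕ} (hG : IsMultiplyPretransitive G α j) (x : Fin j ↪ α) :
    Nat.card G = (Fintype.card α).descFactorial j * Nat.card (tupleStab G x) := by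
  letI : MulAction G (Fin j ↪ α) := Function.Embedding.instMulAction
  have h := (stabilizer G x).card_mul_index
  haveI : IsPretransitive G (Fin j ↪ α) := hG
  rw [index_stabilizer_of_transitive G x] at h
  rw [← h, Nat.card_eq_fintype_card (α := Fin j ↪ α), Fintype.card_embedding_eq, Fintype.card_fin,
    mul_comm]
  congr 1
  have hfix : ∀ m : stabilizer G x, ((m : G) : Perm α) ∈ G ∧ ∀ i, ((m : G) : Perm α) (x i) = x i :=
    fun m => ⟨(m : G).2, fun i => DFunLike.congr_fun (mem_stabilizer_iff.1 m.2) i⟩
  exact Nat.card_congr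
    { toFun := fun m => ⟨((m : G) : Perm α), mem_tupleStab.2 (hfix m)⟩
      invFun := fun m => ⟨⟨(m : Perm α), (mem_tupleStab.1 m.2).1⟩,
        mem_stabilizer_iff.2 (Function.Embedding.ext (mem_tupleStab.1 m.2).2)⟩
      left_inv := fun m => rfl
      right_inv := fun m => rfl }

theorem choose_dvd_card {k : ℕ} (hk : k ≤ Fintype.card α)
    (hh : IsPretransitive G (Set.powersetCard α k)) :
    (Fintype.card α).choose k ∣ Nat.card G := by
  obtain ⟨s, -, hs⟩ := Finset.exists_subset_card_eq (s := (Finset.univ : Finset α)) (n := k)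
    (by rwa [Finset.card_univ])
  haveI := hh
  have h := index_stabilizer_of_transitive G (⟨s, hs⟩ : Set.powersetCard α k)
  rw [Set.powersetCard.card, Nat.card_eq_fintype_card (α := α)] at h
  exact h ▸ Subgroup.index_dvd_card _

/-- A free tuple stabiliser divides the number of remaining points; in case of equality it is
transitive on them. -/
theorem tupleStab_free {j : ℕ} (x : Fin j ↪ α)
    (hfree : ∀ g ∈ tupleStab G x, ∀ a, a ∉ Finset.univ.map x → g a = a → g = 1) :
    Nat.card (tupleStab G x) ∣ Fintype.card α - j ∧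
      (Nat.card (tupleStab G x) = Fintype.card α - j → ∀ b c, b ∉ Finset.univ.map x →
        c ∉ Finset.univ.map x → ∃ g ∈ tupleStab G x, g b = c) := by
  classical
  set R := Finset.univ.map x with hR
  set H := tupleStab G x
  have hmap : ∀ g : H, ∀ a, a ∉ R → (g : Perm α) a ∉ R := by
    intro g a ha h
    obtain ⟨i, -, hi⟩ := Finset.mem_map.1 h
    rw [← (mem_tupleStab.1 g.2).2 i] at hi
    exact ha ((g : Perm α).injective hi ▸ Finset.mem_map_of_mem x (Finset.mem_univ i))
  letI : MulAction H {a // a ∉ R} :=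
    { smul := fun g a => ⟨(g : Perm α) a, hmap g a a.2⟩
      one_smul := fun a => rfl
      mul_smul := fun g h a => rfl }
  have hstab : ∀ a : {a // a ∉ R}, stabilizer H a = ⊥ := fun a =>
    (Subgroup.eq_bot_iff_forall _).2 fun g hg =>
      Subtype.ext (hfree g g.2 a a.2 (congrArg Subtype.val (mem_stabilizer_iff.1 hg)))
  have hcard : Nat.card {a // a ∉ R} = Fintype.card α - j := by
    rw [Nat.card_eq_fintype_card, Fintype.card_subtype_compl, Fintype.card_coe, hR, Finset.card_map,
      Finset.card_univ, Fintype.card_fin]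
  refine ⟨?_, fun heq b c hb hc => ?_⟩
  · rw [← hcard, Nat.card_congr (selfEquivOrbitsQuotientProd hstab), Nat.card_prod]
    exact dvd_mul_left _ _
  · have hinj : Function.Injective fun g : H => g • (⟨b, hb⟩ : {a // a ∉ R}) := by
      intro g g' h
      have h1 : g⁻¹ * g' ∈ stabilizer H (⟨b, hb⟩ : {a // a ∉ R}) := by
        rw [mem_stabilizer_iff, mul_smul, ← show g • (⟨b, hb⟩ : {a // a ∉ R}) = g' • ⟨b, hb⟩ from h,
          inv_smul_smul]
      rw [hstab, Subgroup.mem_bot] at h1
      exact inv_mul_eq_one.1 h1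
    obtain ⟨g, hg⟩ := ((Nat.bijective_iff_injective_and_card _).2 ⟨hinj, heq.trans hcard.symm⟩).2
      ⟨c, hc⟩
    exact ⟨g, g.2, congrArg Subtype.val hg⟩

/-- Either the transitivity step, or the divisibilities of the exceptional case. -/
theorem lw_step {j : ℕ} (hn : j + 2 ≤ Fintype.card α)
    (hj : IsMultiplyPretransitive G α j)
    (hh1 : IsPretransitive G (Set.powersetCard α (j + 1)))
    (hh : IsPretransitive G (Set.powersetCard α (j + 2))) :
    IsMultiplyPretransitive G α (j + 1) ∨ ∃ d e : ℕ, Fintype.card α - j = e * d ∧ 2 ≤ e ∧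
      Nat.card G = (Fintype.card α).descFactorial j * d ∧
      e * (Fintype.card α - (j + 1)) ∣ (j + 2).factorial ∧ e ∣ (j + 1).factorial ∧
      ∀ s : Finset α, s.card = j + 1 → ∀ g ∈ G, (∀ a ∈ s, g a = a) → g = 1 := by
  classical
  obtain ⟨s₁, -, hs₁⟩ := Finset.exists_subset_card_eq (s := (Finset.univ : Finset α)) (n := j + 1)
    (by rw [Finset.card_univ]; omega)
  obtain ⟨s₂, -, hs₂⟩ := Finset.exists_subset_card_eq (s := (Finset.univ : Finset α)) (n := j + 2)
    (by rw [Finset.card_univ]; omega)
  by_cases hl : 1 < Nat.card (fixingSubgroup G (s₁ : Set α))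
  · have := Cfsg.Agent.S0744.result G (k := j + 2) (by omega) (by omega) _ _ hl
      (fun s hs => card_fixingSubgroup_const hh1 (by omega) hs₁)
      (fun s hs => card_fixingSubgroup_const hh hs hs₂)
    exact Or.inl this
  have htriv : ∀ s : Finset α, s.card = j + 1 → ∀ g ∈ G, (∀ a ∈ s, g a = a) → g = 1 := by
    intro s hs g hg hfix
    have h1 : Nat.card (fixingSubgroup G (s : Set α)) = 1 := by
      rw [card_fixingSubgroup_const hh1 hs hs₁]
      have := Nat.card_pos (α := fixingSubgroup G (s₁ : Set α))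
      omega
    have hmem : (⟨g, hg⟩ : G) ∈ fixingSubgroup G (s : Set α) :=
      (mem_fixingSubgroup_iff G).2 fun a ha => hfix a ha
    rw [Subgroup.card_eq_one.1 h1, Subgroup.mem_bot] at hmem
    exact congrArg Subtype.val hmem
  have hfree : ∀ (x : Fin j ↪ α), ∀ g ∈ tupleStab G x, ∀ a, a ∉ Finset.univ.map x → g a = a →
      g = 1 := by
    intro x g hg a ha hga
    obtain ⟨hgG, hgx⟩ := mem_tupleStab.1 hg
    refine htriv (insert a (Finset.univ.map x)) ?_ g hgG fun b hb => ?_
    · rw [Finset.card_insert_of_notMem ha, Finset.card_map, Finset.card_univ, Fintype.card_fin]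
    · rcases Finset.mem_insert.1 hb with rfl | hb
      · exact hga
      · obtain ⟨i, -, rfl⟩ := Finset.mem_map.1 hb
        exact hgx i
  obtain ⟨x₀⟩ : Nonempty (Fin j ↪ α) :=
    Function.Embedding.nonempty_of_card_le (by rw [Fintype.card_fin]; omega)
  have hG := card_eq_descFactorial_mul hj x₀
  obtain ⟨e, he⟩ := (tupleStab_free x₀ (hfree x₀)).1
  obtain ⟨d, hd⟩ : ∃ d, Nat.card (tupleStab G x₀) = d := ⟨_, rfl⟩
  rw [hd] at hG he
  rcases Nat.lt_or_ge e 2 with he2 | he2
  · left
    have heq : d = Fintype.card α - j := by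
      obtain rfl | rfl : e = 0 ∨ e = 1 := by omega
      · omega
      · omega
    refine CfsgLib.PermMulti.isMultiplyPretransitive_of_fixing (by omega) fun s hs b c hb hc => ?_
    have hsj : s.card = j := by omega
    let x : Fin j ↪ α :=
      (finCongr hsj.symm).toEmbedding.trans (s.equivFin.symm.toEmbedding.trans (Function.Embedding.subtype _))
    have hxs : Finset.univ.map x = s :=
      Finset.eq_of_subset_of_card_le
        (fun a ha => by obtain ⟨i, -, rfl⟩ := Finset.mem_map.1 ha; exact Subtype.prop _)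
        (by rw [Finset.card_map, Finset.card_univ, Fintype.card_fin, hsj])
    obtain ⟨g₁, hg₁, hg₁x⟩ := exists_map hj x₀ x
    obtain ⟨g, hg, hgb⟩ := (tupleStab_free x (hfree x)).2
      (by rw [← card_tupleStab_map hg₁ hg₁x, hd, heq]) b c (hxs ▸ hb) (hxs ▸ hc)
    obtain ⟨hgG, hgx⟩ := mem_tupleStab.1 hg
    refine ⟨⟨g, hgG⟩, fun a ha => ?_, hgb⟩
    rw [← hxs] at ha
    obtain ⟨i, -, rfl⟩ := Finset.mem_map.1 ha
    exact hgx i
  · have hd0 : 0 < d := hd ▸ Nat.card_pos
    have hn0 : 0 < (Fintype.card α).descFactorial j := Nat.descFactorial_pos.2 (by omega)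
    have key : ∀ k, k ≤ Fintype.card α → IsPretransitive G (Set.powersetCard α k) →
        (Fintype.card α).descFactorial k ∣ k.factorial * ((Fintype.card α).descFactorial j * d) := by
      intro k hk hhk
      rw [Nat.descFactorial_eq_factorial_mul_choose, ← hG]
      exact Nat.mul_dvd_mul_left _ (choose_dvd_card hk hhk)
    have k1 := key (j + 1) (by omega) hh1
    have k2 := key (j + 2) (by omega) hh
    rw [Nat.descFactorial_succ] at k1
    rw [Nat.descFactorial_succ, Nat.descFactorial_succ] at k2
    refine Or.inr ⟨d, e, by rw [he, mul_comm], he2, hG, ?_, ?_, htriv⟩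
    · refine Nat.dvd_of_mul_dvd_mul_right (Nat.mul_pos hn0 hd0) ?_
      refine dvd_trans (dvd_of_eq ?_) k2
      rw [he]; ring
    · refine Nat.dvd_of_mul_dvd_mul_right (Nat.mul_pos hn0 hd0) ?_
      refine dvd_trans (dvd_of_eq ?_) k1
      rw [he]; ring

/-- Restriction to an invariant set is faithful if the other points are fixed. -/
theorem card_onSet_of_fix {H : Subgroup (Perm α)} {F : Finset α}
    (hfix : ∀ g ∈ H, ∀ a, a ∉ F → g a = a) : Nat.card (onSet H F) = Nat.card H := by
  have hinv : ∀ g ∈ H, ∀ a, g a ∈ F ↔ a ∈ F := fun g hg a => by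
    refine ⟨fun h => by_contra fun ha => ha (hfix g hg a ha ▸ h), fun h => by_contra fun ha => ?_⟩
    have := g.injective (hfix g hg _ ha)
    exact ha (this.symm ▸ h)
  refine (Nat.card_congr (Equiv.ofBijective
    (fun g : H => (⟨(g : Perm α).subtypePerm (hinv g g.2), (g : Perm α), g.2, fun _ => rfl⟩ :
      onSet H F)) ⟨fun g g' h => ?_, fun σ => ?_⟩)).symm
  · refine Subtype.ext (Equiv.ext fun a => ?_)
    by_cases ha : a ∈ F
    · exact congrArg Subtype.val (DFunLike.congr_fun (congrArg Subtype.val h) ⟨a, ha⟩)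
    · rw [hfix g g.2 a ha, hfix g' g'.2 a ha]
  · obtain ⟨σ, g, hg, hgx⟩ := σ
    exact ⟨⟨g, hg⟩, Subtype.ext (Equiv.ext fun a => Subtype.ext (hgx a))⟩

/-- The order of a transitive group on `n` points with a point stabiliser of impossible order. -/
theorem stab_degree_false (hG : IsMultiplyPretransitive G α 1) {p m : ℕ} (hp : p.Prime)
    (hα : Fintype.card α = p + 1) (hcard : Nat.card G = (p + 1) * (p * m)) (hpm : ¬ p ∣ m)
    (h : ∀ a : ℕ, a ∣ p - 1 → a ∣ m → m / a % p ≠ 1) : False := by
  obtain ⟨a⟩ : Nonempty α := Fintype.card_pos_iff.1 (by omega)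
  let x : Fin 1 ↪ α := ⟨fun _ => a, fun i i' _ => Subsingleton.elim i i'⟩
  have h1 := card_eq_descFactorial_mul hG x
  rw [Nat.descFactorial_one, hα, hcard, Nat.mul_right_inj (by omega)] at h1
  refine prime_degree_false (onSet (tupleStab G x) ({a}ᶜ : Finset α)) hp
    (by rw [Fintype.card_coe, Finset.card_compl, Finset.card_singleton]; omega) ?_ hpm h
  rw [card_onSet_of_fix fun g hg b hb => ?_, ← h1]
  obtain rfl : b = a := by simpa using hb
  exact (mem_tupleStab.1 hg).2 0

theorem sylow_check {q m p : ℕ} (hq : q ≠ 0)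
    (h : ∀ a : Fin (q + 1), (a : ℕ) ∣ q → (a : ℕ) ∣ m → m / (a : ℕ) % p ≠ 1) :
    ∀ a : ℕ, a ∣ q → a ∣ m → m / a % p ≠ 1 := fun a h1 =>
  h ⟨a, Nat.lt_succ_of_le (Nat.le_of_dvd (Nat.pos_of_ne_zero hq) h1)⟩ h1

theorem lw_base_three (hn : 6 ≤ Fintype.card α) (hj : IsMultiplyPretransitive G α 1)
    (hh1 : IsPretransitive G (Set.powersetCard α 2))
    (hh : IsPretransitive G (Set.powersetCard α 3)) : IsMultiplyPretransitive G α 2 := by
  rcases lw_step (j := 1) (by omega) hj hh1 hh with h | ⟨d, e, -, he, -, h1, -, -⟩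
  · exact h
  · exact (lw_arith_three hn he h1).elim

theorem lw_base_four (hn : 8 ≤ Fintype.card α) (hj : IsMultiplyPretransitive G α 2)
    (hh1 : IsPretransitive G (Set.powersetCard α 3))
    (hh : IsPretransitive G (Set.powersetCard α 4)) : IsMultiplyPretransitive G α 3 := by
  rcases lw_step (j := 2) (by omega) hj hh1 hh with h | ⟨d, e, hde, he, hG, h1, h2, -⟩
  · exact h
  obtain ⟨hn', rfl⟩ := lw_arith_four hn hde he h1 h2
  rw [hn'] at hG
  exact (prime_degree_false G (m := 30) (by norm_num : Nat.Prime 11) hn' (hG.trans (by decide))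
    (by norm_num) (sylow_check (by norm_num) (by decide))).elim

theorem lw_base_five (hn : 10 ≤ Fintype.card α) (hj : IsMultiplyPretransitive G α 3)
    (hh1 : IsPretransitive G (Set.powersetCard α 4))
    (hh : IsPretransitive G (Set.powersetCard α 5)) : IsMultiplyPretransitive G α 4 := by
  rcases lw_step (j := 3) (by omega) hj hh1 hh with h | ⟨d, e, hde, he, hG, h1, h2, -⟩
  · exact h
  exfalso
  have hj1 : IsMultiplyPretransitive G α 1 :=
    haveI := hj
    isMultiplyPretransitive_of_le (n := 3) (by norm_num) (by rw [Nat.card_eq_fintype_card]; omega)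
  rcases lw_arith_five hn hde he h1 h2 with ⟨hn', hd⟩ | ⟨hn', rfl⟩ | ⟨hn', rfl⟩ <;> rw [hn'] at hG
  · rcases hd with rfl | rfl | rfl
    · exact prime_degree_false G (m := 306 * 8) (by norm_num : Nat.Prime 19) hn'
        (hG.trans (by decide)) (by norm_num) (sylow_check (by norm_num) (by decide))
    · exact prime_degree_false G (m := 306 * 4) (by norm_num : Nat.Prime 19) hn'
        (hG.trans (by decide)) (by norm_num) (sylow_check (by norm_num) (by decide))
    · exact prime_degree_false G (m := 306 * 2) (by norm_num : Nat.Prime 19) hn'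
        (hG.trans (by decide)) (by norm_num) (sylow_check (by norm_num) (by decide))
  · exact stab_degree_false hj1 (m := 30) (by norm_num : Nat.Prime 11) hn'
      (hG.trans (by decide)) (by norm_num) (sylow_check (by norm_num) (by decide))
  · exact stab_degree_false hj1 (m := 154) (by norm_num : Nat.Prime 23) hn'
      (hG.trans (by decide)) (by norm_num) (sylow_check (by norm_num) (by decide))

/-- The first form of the theorem, for `k ≤ 5`. -/
theorem lw_pred_small : ∀ k, k ≤ 5 → 2 * k ≤ Fintype.card α →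
    IsPretransitive G (Set.powersetCard α k) → IsMultiplyPretransitive G α (k - 1) := by
  intro k
  induction k with
  | zero => exact fun _ _ _ => transitive_zero G
  | succ k ih =>
    intro hk hn hh
    rcases Nat.lt_or_ge k 1 with hk0 | hk1
    · obtain rfl : k = 0 := by omega
      exact transitive_zero G
    have hh1 : IsPretransitive G (Set.powersetCard α k) := homog_pred (k := k + 1) (by omega) (by omega) hh
    have hprev := ih (by omega) (by omega) hh1
    obtain rfl | rfl | rfl | rfl : k = 1 ∨ k = 2 ∨ k = 3 ∨ k = 4 := by omega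
    · exact transitive_one_of_homog hh1
    · exact lw_base_three hn hprev hh1 hh
    · exact lw_base_four hn hprev hh1 hh
    · exact lw_base_five hn hprev hh1 hh

/-- Transporting induced permutations along an element of the group. -/
theorem mem_onSet_image {D : Finset α} {g : Perm α} (hg : g ∈ G) {σ : Perm (D.image g : Finset α)}
    (h : ((g.subtypeEquiv (p := (· ∈ D)) (q := (· ∈ D.image g)) fun _ =>
      (g.injective.mem_finset_image).symm).symm.permCongr σ) ∈ onSet G D) :
    σ ∈ onSet G (D.image g) := by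
  obtain ⟨h', hh', hx⟩ := h
  refine ⟨g * h' * g⁻¹, G.mul_mem (G.mul_mem hg hh') (G.inv_mem hg), fun z => ?_⟩
  have h1 := congrArg g (hx ((g.subtypeEquiv fun _ => (g.injective.mem_finset_image).symm).symm z))
  simp only [Equiv.permCongr_apply, Equiv.symm_symm, Equiv.apply_symm_apply] at h1
  simpa using h1

/-- If every `k`-set is equivalent and carries the alternating group and an odd induced
permutation, the group is `k`-transitive. -/
theorem transitive_of_induced {k : ℕ} (hh : IsPretransitive G (Set.powersetCard α k))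
    {D : Finset α} (hD : D.card = k) (halt : alternatingGroup D ≤ onSet G D)
    {E : Finset α} (hE : E.card = k) {τ : Perm E} (hτ : τ ∈ onSet G E) (hodd : Perm.sign τ = -1) :
    IsMultiplyPretransitive G α k := by
  have haltE : alternatingGroup E ≤ onSet G E := by
    obtain ⟨g, hg, rfl⟩ := exists_image_eq hh hD hE
    intro σ hσ
    refine mem_onSet_image hg (halt ?_)
    rw [Perm.mem_alternatingGroup] at hσ ⊢
    rwa [Perm.sign_permCongr]
  have hallE : ∀ σ : Perm E, σ ∈ onSet G E := by
    intro σ
    rcases Int.units_eq_one_or (Perm.sign σ) with h | h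
    · exact haltE h
    · have := (onSet G E).mul_mem (haltE (show σ * τ⁻¹ ∈ alternatingGroup E by
        rw [Perm.mem_alternatingGroup, map_mul, map_inv, h, hodd]; decide)) hτ
      rwa [inv_mul_cancel_right] at this
  refine transitive_of_exists_map fun x y => ?_
  -- move both tuples into `E`
  have hxcard : ∀ x : Fin k ↪ α, (Finset.univ.map x).card = k := fun x => by
    rw [Finset.card_map, Finset.card_univ, Fintype.card_fin]
  obtain ⟨gx, hgx, hgxE⟩ := exists_image_eq hh (hxcard x) hE
  obtain ⟨gy, hgy, hgyE⟩ := exists_image_eq hh (hxcard y) hE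
  have hxE : ∀ i, gx (x i) ∈ E := fun i =>
    hgxE ▸ Finset.mem_image_of_mem _ (Finset.mem_map_of_mem x (Finset.mem_univ i))
  have hyE : ∀ i, gy (y i) ∈ E := fun i =>
    hgyE ▸ Finset.mem_image_of_mem _ (Finset.mem_map_of_mem y (Finset.mem_univ i))
  have hcardE : Fintype.card (Fin k) = Fintype.card E := by
    rw [Fintype.card_fin, Fintype.card_coe, hE]
  let ex : Fin k ≃ E := Equiv.ofBijective (fun i => ⟨gx (x i), hxE i⟩)
    ((Fintype.bijective_iff_injective_and_card _).2
      ⟨fun a b h => x.injective (gx.injective (congrArg Subtype.val h)), hcardE⟩)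
  let ey : Fin k ≃ E := Equiv.ofBijective (fun i => ⟨gy (y i), hyE i⟩)
    ((Fintype.bijective_iff_injective_and_card _).2
      ⟨fun a b h => y.injective (gy.injective (congrArg Subtype.val h)), hcardE⟩)
  obtain ⟨h, hhG, hhx⟩ := hallE (ex.symm.trans ey)
  refine ⟨gy⁻¹ * h * gx, G.mul_mem (G.mul_mem (G.inv_mem hgy) hhG) hgx, fun i => ?_⟩
  rw [Perm.mul_apply, Perm.mul_apply, show gx (x i) = (ex i : α) from rfl, hhx,
    Equiv.trans_apply, Equiv.symm_apply_apply, show (ey i : α) = gy (y i) from rfl,
    Perm.inv_def, Equiv.symm_apply_apply]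

/-- The Livingstone–Wagner theorem. -/
theorem lw_trans : ∀ k, 5 ≤ k → 2 * k ≤ Fintype.card α →
    IsPretransitive G (Set.powersetCard α k) → IsMultiplyPretransitive G α k := by
  intro k hk
  induction k, hk using Nat.le_induction with
  | base => exact fun hn hh => lw_trans_step le_rfl (by omega) hh (lw_pred_small 5 le_rfl hn hh)
  | succ k hk ih =>
    exact fun hn hh => lw_trans_step (by omega) (by omega) hh
      (ih (by omega) (homog_pred (k := k + 1) (by omega) (by omega) hh))
where
  lw_trans_step {k : ℕ} (hk : 5 ≤ k) (hn : k + 2 ≤ Fintype.card α)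
      (hh : IsPretransitive G (Set.powersetCard α k))
      (hprev : IsMultiplyPretransitive G α (k - 1)) : IsMultiplyPretransitive G α k := by
    obtain ⟨D, hD, halt⟩ := exists_induces_alt _ G (k - 1) rfl (by omega) (by omega) hprev
    rw [Nat.sub_add_cancel (by omega : 1 ≤ k)] at hD
    obtain ⟨u, hu, hu2, hu1, hf⟩ := exists_involution_many_fixed (G := G) (j := k - 5)
      (by rwa [show 4 + (k - 5) = k - 1 by omega]) (by omega)
    obtain ⟨a, ha⟩ : ∃ a, u a ≠ a := not_forall.1 fun h => hu1 (Equiv.ext h)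
    obtain ⟨s, hsu, hs⟩ := Finset.exists_subset_card_eq (s := u.supportᶜ) (n := k - 2) (by omega)
    have hsfix : ∀ z ∈ s, u z = z := fun z hz =>
      Perm.notMem_support.1 (Finset.mem_compl.1 (hsu hz))
    have has : a ∉ s := fun h => ha (hsfix a h)
    have hua : u (u a) = a := swap_apply_of_sq hu2 a
    have hbs : u a ∉ s := fun h => ha (u.injective (hsfix _ h))
    have hEcard : (insert a (insert (u a) s)).card = k := by
      rw [Finset.card_insert_of_notMem (by simp [has, Ne.symm ha]),
        Finset.card_insert_of_notMem hbs, hs]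
      omega
    refine transitive_of_induced hh hD halt hEcard
      (τ := Equiv.swap ⟨a, by simp⟩ ⟨u a, by simp⟩) ⟨u, hu, fun z => ?_⟩
      (Perm.sign_swap (by simp [Subtype.ext_iff, Ne.symm ha]))
    obtain ⟨z, hz⟩ := z
    simp only [Finset.mem_insert] at hz
    rcases hz with rfl | rfl | hz'
    · rw [Equiv.swap_apply_left]
    · rw [Equiv.swap_apply_right]; exact hua
    · rw [Equiv.swap_apply_of_ne_of_ne (fun h => has (by cases h; exact hz'))
        (fun h => hbs (by cases h; exact hz'))]
      exact hsfix z hz'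

/-- The first form of the theorem. -/
theorem lw_pred {k : ℕ} (hn : 2 * k ≤ Fintype.card α)
    (hh : IsPretransitive G (Set.powersetCard α k)) : IsMultiplyPretransitive G α (k - 1) := by
  rcases Nat.lt_or_ge k 6 with hk | hk
  · exact lw_pred_small k (by omega) hn hh
  · exact lw_trans (k - 1) (by omega) (by omega) (homog_pred (by omega) (by omega) hh)

end CfsgLib.Homog
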