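/-
The exceptions in the Livingstone–Wagner theorem.
-/
import Cfsg.Agent.Perm.Homog.LW
import Mathlib.GroupTheory.SpecificGroups.Alternating
import Mathlib.GroupTheory.SpecificGroups.ZGroup

set_option autoImplicit false
set_option linter.unusedSectionVars false
set_option linter.style.haveILetI false

namespace CfsgLib.Homog

open MulAction Equiv
open scoped Pointwise

universe u

variable {α : Type u} [Fintype α] [DecidableEq α] {G : Subgroup (Perm α)}

/-- If the order is an odd multiple of the number of `k`-sets, no involution fixes a `k`-set. -/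
theorem no_invariant_set {k m : ℕ} (hh : IsPretransitive G (Set.powersetCard α k))
    (hG : Nat.card G = (Fintype.card α).choose k * m) (hm : Odd m) {u : Perm α} (hu : u ∈ G)
    (hu2 : u * u = 1) (hu1 : u ≠ 1) {s : Finset α} (hs : s.card = k) (hus : s.image u = s) :
    False := by
  haveI := hh
  let S : Set.powersetCard α k := ⟨s, hs⟩
  have h := (stabilizer G S).card_mul_index
  rw [index_stabilizer_of_transitive G S, Set.powersetCard.card,
    Nat.card_eq_fintype_card (α := α), hG, mul_comm] at h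
  have hc : 0 < (Fintype.card α).choose k := Nat.choose_pos (hs ▸ s.card_le_univ)
  rw [Nat.mul_right_inj hc.ne'] at h
  have hmem : (⟨u, hu⟩ : G) ∈ stabilizer G S := mem_stabilizer_iff.2 (Subtype.ext hus)
  have hord : orderOf (⟨⟨u, hu⟩, hmem⟩ : stabilizer G S) = 2 := by
    rw [← Subgroup.orderOf_coe, ← Subgroup.orderOf_coe]
    exact orderOf_eq_prime (by rw [pow_two]; exact hu2) hu1
  have h2 : 2 ∣ m := h ▸ hord ▸ orderOf_dvd_natCard _
  exact (Nat.not_even_iff_odd.2 hm) (even_iff_two_dvd.2 h2)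

theorem tables_three : ∀ n : Fin 6, ∀ e : Fin 6, ∀ d : Fin 6,
    (4 ≤ (n : ℕ) ∧ (n : ℕ) - 1 = (e : ℕ) * d ∧ 2 ≤ (e : ℕ) ∧ (e : ℕ) ∣ 2) →
    (n : ℕ) = 5 ∧ (d : ℕ) = 2 := by decide

theorem tables_four : ∀ n : Fin 8, ∀ e : Fin 8, ∀ d : Fin 8,
    (5 ≤ (n : ℕ) ∧ (n : ℕ) - 2 = (e : ℕ) * d ∧ 2 ≤ (e : ℕ) ∧ (e : ℕ) ∣ 6 ∧
      (e : ℕ) * (n - 3) ∣ 24) →
    ((n : ℕ) = 5 ∧ (d : ℕ) = 1) ∨ ((n : ℕ) = 6 ∧ (d : ℕ) = 2) := by decide

theorem tables_five : ∀ n : Fin 10, ∀ e : Fin 7, ∀ d : Fin 7,
    (6 ≤ (n : ℕ) ∧ (n : ℕ) - 3 = (e : ℕ) * d ∧ 2 ≤ (e : ℕ) ∧ (e : ℕ) ∣ 24) →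
    ((n : ℕ) = 6 ∧ (d : ℕ) = 1) ∨ ((n : ℕ) = 7 ∧ ((d : ℕ) = 1 ∨ (d : ℕ) = 2)) ∨
      ((n : ℕ) = 9 ∧ ((d : ℕ) = 1 ∨ (d : ℕ) = 2 ∨ (d : ℕ) = 3)) := by decide

theorem le_of_eq_mul {x e d : ℕ} (h : x = e * d) (he : 2 ≤ e) (hx : 0 < x) : e ≤ x ∧ d ≤ x := by
  subst h
  obtain rfl | hd := Nat.eq_zero_or_pos d
  · simp at hx
  exact ⟨Nat.le_mul_of_pos_right _ hd, Nat.le_mul_of_pos_left _ (by omega)⟩

/-- The case `k = 3`. -/
theorem exceptions_three (h4 : 4 ≤ Fintype.card α) (h5 : Fintype.card α ≤ 5)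
    (hj : IsMultiplyPretransitive G α 1) (hh1 : IsPretransitive G (Set.powersetCard α 2))
    (hh : IsPretransitive G (Set.powersetCard α 3)) : IsMultiplyPretransitive G α 2 := by
  rcases lw_step (j := 1) (by omega) hj hh1 hh with h | ⟨d, e, hde, he, hG, -, h2, -⟩
  · exact h
  exfalso
  obtain ⟨he', hd'⟩ := le_of_eq_mul hde he (by omega)
  obtain ⟨hn, hd⟩ := tables_three ⟨Fintype.card α, by omega⟩ ⟨e, by omega⟩ ⟨d, by omega⟩
    ⟨h4, hde, he, h2⟩
  simp only at hn hd
  rw [hn, hd] at hG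
  obtain ⟨u, hu, hu2, hu1⟩ := exists_involution_of_even (H := G) (hG ▸ by decide)
  obtain ⟨a, ha⟩ : ∃ a, u a ≠ a := not_forall.1 fun h => hu1 (Equiv.ext h)
  refine no_invariant_set (m := 1) hh1 (by rw [hG, hn]; decide) odd_one hu hu2 hu1
    (Finset.card_pair (Ne.symm ha)) ?_
  rw [Finset.image_insert, Finset.image_singleton, swap_apply_of_sq hu2 a, Finset.pair_comm]

/-- The case `k = 4`. -/
theorem exceptions_four (h5 : 5 ≤ Fintype.card α) (h7 : Fintype.card α ≤ 7)
    (hj : IsMultiplyPretransitive G α 2) (hh1 : IsPretransitive G (Set.powersetCard α 3))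
    (hh : IsPretransitive G (Set.powersetCard α 4)) :
    IsMultiplyPretransitive G α 3 ∨ (Fintype.card α = 5 ∧ Nat.card G = 20) := by
  rcases lw_step (j := 2) (by omega) hj hh1 hh with h | ⟨d, e, hde, he, hG, h1, h2, -⟩
  · exact Or.inl h
  obtain ⟨he', hd'⟩ := le_of_eq_mul hde he (by omega)
  obtain ⟨hn, hd⟩ | ⟨hn, hd⟩ := tables_four ⟨Fintype.card α, by omega⟩ ⟨e, by omega⟩
    ⟨d, by omega⟩ ⟨h5, hde, he, h2, h1⟩
  · simp only at hn hd
    exact Or.inr ⟨hn, by rw [hG, hn, hd]; decide⟩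
  exfalso
  simp only at hn hd
  rw [hn, hd] at hG
  obtain ⟨x⟩ : Nonempty (Fin 2 ↪ α) :=
    Function.Embedding.nonempty_of_card_le (by rw [Fintype.card_fin]; omega)
  have hH : Nat.card (tupleStab G x) = 2 := by
    have := card_eq_descFactorial_mul hj x
    rw [hG, hn, Nat.mul_right_inj (by decide)] at this
    exact this.symm
  obtain ⟨u, hu, hu2, hu1⟩ := exists_involution_of_even (H := tupleStab G x) (hH.symm ▸ even_two)
  obtain ⟨huG, hux⟩ := mem_tupleStab.1 hu
  obtain ⟨a, ha⟩ : ∃ a, u a ≠ a := not_forall.1 fun h => hu1 (Equiv.ext h)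
  have hua := swap_apply_of_sq hu2 a
  have hx0 : x 0 ≠ a := fun h => ha (h ▸ hux 0)
  have hx0' : x 0 ≠ u a := fun h => ha (by
    have h1 := hux 0
    rw [h, hua] at h1
    exact h1.symm)
  refine no_invariant_set (m := 3) hh1 (by rw [hG, hn]; decide) ⟨1, rfl⟩ huG hu2 hu1
    (s := insert (x 0) {a, u a})
    (by rw [Finset.card_insert_of_notMem (by simp [hx0, hx0']), Finset.card_pair (Ne.symm ha)]) ?_
  rw [Finset.image_insert, Finset.image_insert, Finset.image_singleton, hua, hux,
    Finset.pair_comm]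

theorem exists_orderOf {H : Subgroup (Perm α)} {p : ℕ} (hp : p.Prime) (h : p ∣ Nat.card H) :
    ∃ g ∈ H, orderOf g = p := by
  haveI := Fact.mk hp
  obtain ⟨g, hg⟩ := exists_prime_orderOf_dvd_card' p h
  exact ⟨g, g.2, by rw [Subgroup.orderOf_coe, hg]⟩

/-- An odd involution. -/
theorem sign_three_swaps {u : Perm α} (hu2 : u * u = 1) (h : u.support.card = 6) :
    Perm.sign u = -1 := by
  have hct : u.cycleType = Multiset.replicate 3 2 := by
    haveI : Fact (Nat.Prime 2) := ⟨Nat.prime_two⟩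
    have h1 : ∀ c ∈ u.cycleType, c = 2 := fun c hc =>
      Perm.cycleType_of_pow_prime_eq_one (p := 2) (by rw [pow_two]; exact hu2) ▸ hc |>
        Multiset.eq_of_mem_replicate
    have h2 := Multiset.eq_replicate_card.2 h1
    have h3 := Perm.sum_cycleType u
    rw [h2, Multiset.sum_replicate, h, smul_eq_mul] at h3
    rw [h2, show u.cycleType.card = 3 by omega]
  rw [Perm.sign_of_cycleType, hct]
  decide

/-- There is no sharply `3`-transitive group of degree seven. -/
theorem not_sharply_three_seven (hn : Fintype.card α = 7) (hj : IsMultiplyPretransitive G α 3)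
    (hG : Nat.card G = 210)
    (htriv : ∀ s : Finset α, s.card = 3 → ∀ g ∈ G, (∀ a ∈ s, g a = a) → g = 1) : False := by
  have hj1 : IsMultiplyPretransitive G α 1 :=
    haveI := hj
    isMultiplyPretransitive_of_le (n := 3) (by norm_num) (by rw [Nat.card_eq_fintype_card]; omega)
  obtain ⟨x⟩ : Nonempty (Fin 1 ↪ α) :=
    Function.Embedding.nonempty_of_card_le (by rw [Fintype.card_fin]; omega)
  obtain ⟨S, hSdef⟩ : ∃ S, tupleStab G x = S := ⟨_, rfl⟩
  have hS : Nat.card S = 30 := by
    have := card_eq_descFactorial_mul hj1 x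
    rw [hG, hn, hSdef, Nat.descFactorial_one] at this
    omega
  obtain ⟨u, hu, hu2, hu1⟩ := exists_involution_of_even (H := S) (hS ▸ by decide)
  have hfix : ∀ g ∈ S, g (x 0) = x 0 := fun g hg => (mem_tupleStab.1 (hSdef ▸ hg)).2 0
  have hSG : ∀ g ∈ S, g ∈ G := fun g hg => (mem_tupleStab.1 (hSdef ▸ hg)).1
  have hsupp : ∀ g ∈ S, g.support.card ≤ 6 := by
    intro g hg
    have h : g.support ⊆ Finset.univ.erase (x 0) := fun z hz => Finset.mem_erase.2
      ⟨fun e => Perm.mem_support.1 hz (e ▸ hfix g hg), Finset.mem_univ _⟩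
    exact (Finset.card_le_card h).trans (by
      rw [Finset.card_erase_of_mem (Finset.mem_univ _), Finset.card_univ, hn])
  have hu6 : u.support.card = 6 := by
    have h1 := hsupp u hu
    have h2 := Perm.two_dvd_card_support (σ := u) (by rw [pow_two]; exact hu2)
    by_contra hne
    obtain ⟨s, hsu, hs⟩ := Finset.exists_subset_card_eq (s := u.supportᶜ) (n := 3)
      (by rw [Finset.card_compl, hn]; omega)
    exact hu1 (htriv s hs u (hSG u hu) fun a ha =>
      Perm.notMem_support.1 (Finset.mem_compl.1 (hsu ha)))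
  have hodd := sign_three_swaps hu2 hu6
  let f : S →* ℤˣ := Perm.sign.comp S.subtype
  have hf : Function.Surjective f := fun z => by
    rcases Int.units_eq_one_or z with rfl | rfl
    · exact ⟨1, map_one f⟩
    · exact ⟨⟨u, hu⟩, hodd⟩
  have hker : Nat.card f.ker = 15 := by
    have h1 := f.ker.card_mul_index
    rw [Subgroup.index_ker, MonoidHom.range_eq_top.2 hf, Subgroup.card_top,
      Nat.card_eq_fintype_card (α := ℤˣ), Fintype.card_units_int, hS] at h1
    omega
  haveI : Fact (Nat.Prime 5) := ⟨by norm_num⟩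
  haveI : Fact (Nat.Prime 3) := ⟨by norm_num⟩
  obtain ⟨P⟩ : Nonempty (Sylow 5 f.ker) := inferInstance
  have hP : Nat.card P = 5 := by
    rw [P.card_eq_multiplicity, hker, show (15 : ℕ) = 5 * 3 by norm_num,
      Nat.factorization_mul (by norm_num) (by norm_num)]
    simp [(by norm_num : Nat.Prime 5).factorization_self,
      Nat.factorization_eq_zero_of_not_dvd (show ¬ 5 ∣ 3 by norm_num)]
  haveI : IsCyclic (P : Subgroup f.ker) := isCyclic_of_prime_card hP
  have hn5 : (Subgroup.normalizer ((P : Subgroup f.ker) : Set f.ker)) = ⊤ := by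
    have h0 : Nat.card (Sylow 5 f.ker) =
        (Subgroup.normalizer ((P : Subgroup f.ker) : Set f.ker)).index := P.card_eq_index_normalizer
    rw [← Subgroup.index_eq_one, ← h0]
    have h1 := Sylow.card_dvd_index P
    have h2 := card_sylow_modEq_one 5 f.ker
    have h3 := (P : Subgroup f.ker).card_mul_index
    rw [hP, hker] at h3
    rw [show (P : Subgroup f.ker).index = 3 by omega] at h1
    have := Nat.le_of_dvd (by norm_num) h1
    unfold Nat.ModEq at h2
    omega
  obtain ⟨y, hy⟩ := exists_prime_orderOf_dvd_card' (G := f.ker) 3 (hker ▸ by decide)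
  obtain ⟨⟨c, hcP⟩, hc⟩ := exists_prime_orderOf_dvd_card' (G := (P : Subgroup f.ker)) 5
    (by rw [hP])
  rw [← Subgroup.orderOf_coe] at hc
  simp only at hc
  have hyN : y ∈ Subgroup.normalizer ((P : Subgroup f.ker) : Set f.ker) := hn5 ▸ Subgroup.mem_top y
  have hφ : (P : Subgroup f.ker).normalizerMonoidHom ⟨y, hyN⟩ = 1 := by
    refine orderOf_eq_one_iff.1 (Nat.eq_one_of_dvd_coprimes (show Nat.Coprime 3 4 by norm_num)
      ?_ ?_)
    · refine (orderOf_map_dvd _ _).trans (dvd_of_eq ?_)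
      rw [← Subgroup.orderOf_coe]
      exact hy
    · have h1 : Nat.card (MulAut (P : Subgroup f.ker)) = 4 := by
        rw [IsCyclic.card_mulAut, hP, Nat.totient_prime (by norm_num : Nat.Prime 5)]
      exact h1 ▸ orderOf_dvd_natCard _
  have hcomm : Commute y c := by
    have h1 : y ∈ Subgroup.centralizer ((P : Subgroup f.ker) : Set f.ker) := by
      have h2 := MonoidHom.mem_ker.2 hφ
      rw [Subgroup.normalizerMonoidHom_ker, Subgroup.mem_subgroupOf] at h2
      exact h2
    exact (Subgroup.mem_centralizer_iff.1 h1 c hcP).symm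
  have hord : orderOf (y * c) = 15 := by
    rw [hcomm.orderOf_mul_eq_mul_orderOf_of_coprime (by rw [hy, hc]; norm_num), hy, hc]
  -- a permutation of order fifteen moves at least eight points
  obtain ⟨g, hgdef⟩ : ∃ g, (((y * c : f.ker) : S) : Perm α) = g := ⟨_, rfl⟩
  have hg15 : orderOf g = 15 := by rw [← hgdef, Subgroup.orderOf_coe, Subgroup.orderOf_coe, hord]
  have hg6 : g.support.card ≤ 6 := hsupp g (hgdef ▸ ((y * c : f.ker) : S).2)
  have hlcm := Perm.lcm_cycleType g
  rw [hg15] at hlcm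
  have hsum := Perm.sum_cycleType g
  have hdvd : ∀ c ∈ g.cycleType, c = 3 ∨ c = 5 := by
    intro c hc
    have h1 := Perm.two_le_of_mem_cycleType hc
    have h2 : c ∣ 15 := hlcm ▸ Multiset.dvd_lcm hc
    have h3 : c ≤ 6 := (Multiset.single_le_sum (fun _ _ => Nat.zero_le _) c hc).trans (hsum ▸ hg6)
    interval_cases c <;> simp_all
  have h3mem : 3 ∈ g.cycleType := by
    by_contra h
    have : g.cycleType.lcm ∣ 5 := Multiset.lcm_dvd.2 fun c hc => by
      rcases hdvd c hc with rfl | rfl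
      · exact absurd hc h
      · exact dvd_rfl
    rw [hlcm] at this
    exact absurd this (by decide)
  have h5mem : 5 ∈ g.cycleType := by
    by_contra h
    have : g.cycleType.lcm ∣ 3 := Multiset.lcm_dvd.2 fun c hc => by
      rcases hdvd c hc with rfl | rfl
      · exact dvd_rfl
      · exact absurd hc h
    rw [hlcm] at this
    exact absurd this (by decide)
  obtain ⟨t, ht⟩ := Multiset.exists_cons_of_mem h3mem
  rw [ht, Multiset.mem_cons] at h5mem
  have h5t : (5 : ℕ) ≤ t.sum :=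
    Multiset.single_le_sum (fun _ _ => Nat.zero_le _) 5 (h5mem.resolve_left (by norm_num))
  rw [ht, Multiset.sum_cons] at hsum
  omega

/-- In a group of degree nine of order `1008` of this kind, every transposition of a `4`-set is
induced, so it is `4`-transitive. -/
theorem nine_two (hn : Fintype.card α = 9) (hj : IsMultiplyPretransitive G α 3)
    (hG : Nat.card G = 1008) (hh : IsPretransitive G (Set.powersetCard α 4))
    (htriv : ∀ s : Finset α, s.card = 4 → ∀ g ∈ G, (∀ a ∈ s, g a = a) → g = 1) :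
    IsMultiplyPretransitive G α 4 := by
  classical
  have key : ∀ a b c d : α, a ≠ b → c ≠ a → c ≠ b → d ≠ a → d ≠ b → d ≠ c →
      ∃ g ∈ G, g a = a ∧ g b = b ∧ g c = d ∧ g d = c := by
    intro a b c d hab hca hcb hda hdb hdc
    have hinv : ∀ e, e ≠ a → e ≠ b → ∃ t ∈ G, t * t = 1 ∧ t ≠ 1 ∧ t a = a ∧ t b = b ∧ t e = e ∧
        ∀ z, t z = z → z = a ∨ z = b ∨ z = e := by
      intro e hea heb
      let x : Fin 3 ↪ α := ⟨![a, b, e], by
        intro i i' h
        fin_cases i <;> fin_cases i' <;> simp_all [Ne.symm hab, Ne.symm hea, Ne.symm heb]⟩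
      have hH : Nat.card (tupleStab G x) = 2 := by
        have := card_eq_descFactorial_mul hj x
        rw [hG, hn, show Nat.descFactorial 9 3 = 504 by decide] at this
        omega
      obtain ⟨t, ht, ht2, ht1⟩ := exists_involution_of_even (H := tupleStab G x) (hH.symm ▸ even_two)
      obtain ⟨htG, htx⟩ := mem_tupleStab.1 ht
      refine ⟨t, htG, ht2, ht1, htx 0, htx 1, htx 2, fun z hz => ?_⟩
      by_contra hne
      push Not at hne
      refine ht1 (htriv (insert z (Finset.univ.map x)) ?_ t htG fun w hw => ?_)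
      · rw [Finset.card_insert_of_notMem, Finset.card_map, Finset.card_univ, Fintype.card_fin]
        simp only [Finset.mem_map, Finset.mem_univ, true_and, not_exists]
        intro i h
        fin_cases i
        · exact hne.1 h.symm
        · exact hne.2.1 h.symm
        · exact hne.2.2 h.symm
      · rcases Finset.mem_insert.1 hw with rfl | hw
        · exact hz
        · obtain ⟨i, -, rfl⟩ := Finset.mem_map.1 hw
          exact htx i
    choose T hTG hT2 hT1 hTa hTb hTe hTfix using hinv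
    let P := {p : α × α // p.1 ≠ a ∧ p.1 ≠ b ∧ p.2 ≠ a ∧ p.2 ≠ b ∧ p.1 ≠ p.2}
    let Ψ : P → P := fun p => ⟨(T p.1.1 p.2.1 p.2.2.1 p.1.2, p.1.2), by
      obtain ⟨h1, h2, h3, h4, h5⟩ := p.2
      set t := T p.1.1 h1 h2
      refine ⟨fun h => h3 (t.injective (h.trans (hTa _ h1 h2).symm)),
        fun h => h4 (t.injective (h.trans (hTb _ h1 h2).symm)), h3, h4, fun h => ?_⟩
      rcases hTfix _ h1 h2 _ h with e | e | e
      exacts [h3 e, h4 e, h5 e.symm]⟩
    have hinj : Function.Injective Ψ := by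
      rintro ⟨⟨e, z⟩, h1, h2, h3, h4, h5⟩ ⟨⟨e', z'⟩, h1', h2', h3', h4', h5'⟩ h
      have hval := congrArg Subtype.val h
      simp only [Ψ, Prod.mk.injEq] at hval
      obtain ⟨hy, rfl⟩ := hval
      have hset : ({a, b, z, T e h1 h2 z} : Finset α).card = 4 := by
        have hy3 : T e h1 h2 z ≠ z := fun h => by
          rcases hTfix _ h1 h2 _ h with e | e | e
          exacts [h3 e, h4 e, h5 e.symm]
        have hya : T e h1 h2 z ≠ a := fun h => h3 ((T e h1 h2).injective (h.trans (hTa _ h1 h2).symm))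
        have hyb : T e h1 h2 z ≠ b := fun h => h4 ((T e h1 h2).injective (h.trans (hTb _ h1 h2).symm))
        rw [Finset.card_insert_of_notMem (by simp [hab, Ne.symm h3, Ne.symm hya]),
          Finset.card_insert_of_notMem (by simp [Ne.symm h4, Ne.symm hyb]),
          Finset.card_pair (Ne.symm hy3)]
      have hu : T e h1 h2 * T e' h1' h2' = 1 := by
        refine htriv _ hset _ (G.mul_mem (hTG _ _ _) (hTG _ _ _)) fun w hw => ?_
        simp only [Finset.mem_insert, Finset.mem_singleton] at hw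
        rw [Perm.mul_apply]
        rcases hw with rfl | rfl | rfl | rfl
        · rw [hTa, hTa]
        · rw [hTb, hTb]
        · rw [← hy, swap_apply_of_sq (hT2 _ h1 h2)]
        · rw [hy, swap_apply_of_sq (hT2 _ h1' h2'), hy]
      have heq : T e' h1' h2' = T e h1 h2 := by
        rw [← mul_left_cancel_iff (a := T e h1 h2), hu, hT2]
      have hee : e = e' := by
        rcases hTfix e' h1' h2' e (by rw [heq]; exact hTe e h1 h2) with h | h | h
        exacts [absurd h h1, absurd h h2, h]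
      subst hee
      rfl
    obtain ⟨⟨⟨e, z⟩, hP⟩, hp⟩ :=
      (Finite.injective_iff_surjective.1 hinj) ⟨(d, c), hda, hdb, hca, hcb, hdc⟩
    have hval := congrArg Subtype.val hp
    simp only [Ψ, Prod.mk.injEq] at hval
    obtain ⟨hy, rfl⟩ := hval
    exact ⟨_, hTG _ hP.1 hP.2.1, hTa _ _ _, hTb _ _ _, hy,
      by rw [← hy, swap_apply_of_sq (hT2 _ hP.1 hP.2.1)]⟩
  obtain ⟨D, -, hD⟩ := Finset.exists_subset_card_eq (s := (Finset.univ : Finset α)) (n := 4)
    (by rw [Finset.card_univ]; omega)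
  obtain ⟨e, he⟩ := Finset.card_pos.1 (show 0 < D.card by omega)
  have hswap : ∀ z : D, z ≠ ⟨e, he⟩ → Equiv.swap ⟨e, he⟩ z ∈ onSet G D := by
    intro z hz
    have hze : (z : α) ≠ e := fun h => hz (Subtype.ext h)
    obtain ⟨p, q, hpq, hpq'⟩ := Finset.card_eq_two.1 (show ((D.erase e).erase (z : α)).card = 2 by
      rw [Finset.card_erase_of_mem (Finset.mem_erase.2 ⟨hze, z.2⟩), Finset.card_erase_of_mem he]
      omega)
    have hp : p ∈ (D.erase e).erase (z : α) := by rw [hpq']; simp
    have hq : q ∈ (D.erase e).erase (z : α) := by rw [hpq']; simp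
    simp only [Finset.mem_erase] at hp hq
    obtain ⟨g, hg, hgp, hgq, hge, hgz⟩ := key p q e z hpq (Ne.symm hp.2.1) (Ne.symm hq.2.1)
      (Ne.symm hp.1) (Ne.symm hq.1) hze
    refine swap_mem_onSet hg ⟨e, he⟩ z hge hgz fun w hw h1 h2 => ?_
    have : w ∈ (D.erase e).erase (z : α) :=
      Finset.mem_erase.2 ⟨h2, Finset.mem_erase.2 ⟨h1, hw⟩⟩
    rw [hpq', Finset.mem_insert, Finset.mem_singleton] at this
    rcases this with rfl | rfl
    exacts [hgp, hgq]
  have htop := eq_top_of_star (onSet G D) ⟨e, he⟩ hswap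
  obtain ⟨z, hz⟩ := Finset.card_pos.1 (show 0 < (D.erase e).card by
    rw [Finset.card_erase_of_mem he]; omega)
  exact transitive_of_induced hh hD (htop ▸ le_top) hD
    (τ := Equiv.swap ⟨e, he⟩ ⟨z, Finset.mem_of_mem_erase hz⟩) (htop ▸ Subgroup.mem_top _)
    (Perm.sign_swap fun h => (Finset.mem_erase.1 hz).1 (congrArg Subtype.val h).symm)

/-- The case `k = 5`. -/
theorem exceptions_five (h6 : 6 ≤ Fintype.card α) (h9 : Fintype.card α ≤ 9)
    (hj : IsMultiplyPretransitive G α 3) (hh1 : IsPretransitive G (Set.powersetCard α 4))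
    (hh : IsPretransitive G (Set.powersetCard α 5)) :
    IsMultiplyPretransitive G α 4 ∨ (Fintype.card α = 6 ∧ Nat.card G = 120) ∨
      (Fintype.card α = 9 ∧ (Nat.card G = 504 ∨ Nat.card G = 1512)) := by
  rcases lw_step (j := 3) (by omega) hj hh1 hh with h | ⟨d, e, hde, he, hG, -, h2, htriv⟩
  · exact Or.inl h
  obtain ⟨he', hd'⟩ := le_of_eq_mul hde he (by omega)
  rcases tables_five ⟨Fintype.card α, by omega⟩ ⟨e, by omega⟩ ⟨d, by omega⟩ ⟨h6, hde, he, h2⟩
    with ⟨hn, hd⟩ | ⟨hn, hd⟩ | ⟨hn, hd⟩ <;> simp only at hn hd <;> rw [hn] at hG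
  · exact Or.inr (Or.inl ⟨hn, by rw [hG, hd]; decide⟩)
  · rcases hd with rfl | rfl
    · -- `d = 1`
      have hj' := hj
      refine (not_sharply_three_seven hn hj' (hG.trans (by decide)) fun s hs g hg hfix => ?_).elim
      obtain ⟨x, hxs⟩ : ∃ x : Fin 3 ↪ α, Finset.univ.map x = s :=
        ⟨(finCongr hs.symm).toEmbedding.trans
          (s.equivFin.symm.toEmbedding.trans (Function.Embedding.subtype _)),
          Finset.eq_of_subset_of_card_le
            (fun a ha => by obtain ⟨i, -, rfl⟩ := Finset.mem_map.1 ha; exact Subtype.prop _)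
            (by rw [Finset.card_map, Finset.card_univ, Fintype.card_fin, hs])⟩
      have hH := card_eq_descFactorial_mul hj x
      rw [hG, hn, Nat.mul_right_inj (by decide)] at hH
      have hmem : g ∈ tupleStab G x := mem_tupleStab.2 ⟨hg, fun i =>
        hfix _ (hxs ▸ Finset.mem_map_of_mem x (Finset.mem_univ i))⟩
      rwa [Subgroup.card_eq_one.1 hH.symm, Subgroup.mem_bot] at hmem
    · exact (prime_degree_false G (m := 60) (by norm_num : Nat.Prime 7) hn (hG.trans (by decide))
        (by norm_num) (sylow_check (by norm_num) (by decide))).elim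
  · rcases hd with rfl | rfl | rfl
    · exact Or.inr (Or.inr ⟨hn, Or.inl (hG.trans (by decide))⟩)
    · exact Or.inl (nine_two hn hj (hG.trans (by decide)) hh1 htriv)
    · exact Or.inr (Or.inr ⟨hn, Or.inr (hG.trans (by decide))⟩)

end CfsgLib.Homog
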